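import Cfsg.Agent.H106.RC.MRule

/-!
# Covers: the working environment of the rows of S3510

`Env G N Ω` : `N` normal, `C_G(N) = 1`, no point of `Ω` is fixed by `N`.
`RCset S` : every `g ∈ G` has a regular point, for all such `G`, `N ≅ S`, `Ω`.  `RCset S → RC S`.
A *cover* is a family `x : ι → G` such that every point is fixed by some `x i`.
-/

set_option autoImplicit false
open Cfsg

namespace Cfsg.Agent.H106.RC

open MulAction
open scoped commutatorElement

/-- working environment -/
structure Env (G Ω : Type*) [Group G] [MulAction G Ω] (N : Subgroup G) : Prop where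
  norm : N.Normal
  simple : IsSimpleGroup N
  ncomm : ¬ IsMulCommutative N
  cent : Subgroup.centralizer (N : Set G) = ⊥
  nofix : ∀ ω : Ω, ¬ N ≤ stabilizer G ω

/-- `RC` in terms of `G`-sets -/
def RCset (S : Type) [Group S] : Prop :=
  ∀ (G : Type) [Group G] [Finite G] (Ω : Type) [Finite Ω] [Nonempty Ω] [MulAction G Ω]
    (N : Subgroup G) (_ : Env G Ω N) (_ : N ≃* S) (g : G), ∃ ω : Ω, RegPt g ω

/-- every point is fixed by a member of the family -/
def Cov {G ι : Type*} [Group G] (Ω : Type*) [MulAction G Ω] (x : ι → G) : Prop :=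
  ∀ ω : Ω, ∃ i, x i • ω = ω

/-- commuting family of elements of pairwise different prime orders -/
structure PF {G ι : Type*} [Group G] (x : ι → G) (r : ι → ℕ) : Prop where
  prime : ∀ i, (r i).Prime
  inj : Function.Injective r
  pow : ∀ i, x i ^ r i = 1
  ne : ∀ i, x i ≠ 1
  comm : ∀ i j, x i * x j = x j * x i

section conv

theorem isSimple_cgr0 {S S' : Type*} [Group S] [Group S'] (e : S ≃* S') (h : IsSimpleGroup S) :
    IsSimpleGroup S' := by
  have := h
  have : Nontrivial S' := e.symm.toEquiv.nontrivial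
  exact IsSimpleGroup.isSimpleGroup_of_surjective e.toMonoidHom e.surjective

theorem sup_form {S : Type} [Group S] (g k : MulAut S)
    (hk : k ∈ (MulAut.conj : S →* MulAut S).range ⊔ Subgroup.zpowers g) :
    ∃ (i : ℤ) (s : S), k = g ^ i * ((MulAut.conj s : MulAut S))⁻¹ := by
  have hn : ((MulAut.conj : S →* MulAut S).range).Normal := by
    constructor
    rintro _ ⟨s, rfl⟩ a
    refine ⟨a s, ?_⟩
    ext t
    simp [MulAut.conj_apply]
  rw [sup_comm, ← SetLike.mem_coe, Subgroup.mul_normal] at hk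
  obtain ⟨a, ha, b, hb, hab⟩ := Set.mem_mul.1 hk
  obtain ⟨i, rfl⟩ := Subgroup.mem_zpowers_iff.1 ha
  obtain ⟨s, hs⟩ := hb
  refine ⟨i, s⁻¹, ?_⟩
  rw [map_inv, inv_inv, hs, hab]

/-- passage from `G`-sets to subgroups of `MulAut S` -/
theorem rc_of_set {S : Type} [Group S] [Finite S] (hS : IsSimpleGroup S)
    (hSn : ¬ IsMulCommutative S) (h : RCset S) : RC S := by
  classical
  intro g H hH
  have hZ : Subgroup.center S = ⊥ := by
    rcases hS.eq_bot_or_eq_top_of_normal (Subgroup.center S) inferInstance with h | h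
    · exact h
    · exfalso
      apply hSn
      constructor
      constructor
      intro s t
      have : t ∈ Subgroup.center S := by rw [h]; trivial
      exact Subgroup.mem_center_iff.1 this s
  have hinj : Function.Injective (MulAut.conj : S →* MulAut S) := by
    rw [injective_iff_map_eq_one]
    intro s hs
    have : s ∈ Subgroup.center S := by
      rw [Subgroup.mem_center_iff]
      intro u
      have h1 := congrArg (fun f : MulAut S => f u) hs
      simp only [MulAut.conj_apply, MulAut.one_apply] at h1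
      calc u * s = (s * u * s⁻¹) * s := by rw [h1]
        _ = s * u := by group
    rw [hZ] at this
    exact Subgroup.mem_bot.1 this
  let I : Subgroup (MulAut S) := (MulAut.conj : S →* MulAut S).range
  have hconj : ∀ (a : MulAut S) (s : S), a * MulAut.conj s * a⁻¹ = MulAut.conj (a s) := by
    intro a s
    ext t
    simp [MulAut.conj_apply]
  have hInorm : I.Normal := by
    constructor
    rintro _ ⟨s, rfl⟩ a
    exact ⟨a s, (hconj a s).symm⟩
  -- the group `G₀ = I⟨g⟩`
  let G₀ : Subgroup (MulAut S) := I ⊔ Subgroup.zpowers g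
  have hIG : I ≤ G₀ := le_sup_left
  have hgG : g ∈ G₀ := (le_sup_right : Subgroup.zpowers g ≤ G₀) (Subgroup.mem_zpowers g)
  let H₀ : Subgroup G₀ := H.subgroupOf G₀
  let N : Subgroup G₀ := I.subgroupOf G₀
  have hNn : N.Normal := Subgroup.normal_subgroupOf
  let eN : N ≃* S := ((Subgroup.subgroupOfEquivOfLe hIG).trans
    (MonoidHom.ofInjective hinj).symm)
  have hEnv : Env G₀ (G₀ ⧸ H₀) N := by
    refine ⟨hNn, isSimple_cgr0 eN.symm hS, ?_, ?_, ?_⟩
    · intro hc
      apply hSn
      constructor; constructor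
      intro a b
      apply eN.symm.injective
      rw [map_mul, map_mul]
      exact hc.is_comm.comm _ _
    · rw [eq_bot_iff]
      intro a ha
      rw [Subgroup.mem_centralizer_iff] at ha
      rw [Subgroup.mem_bot]
      apply Subtype.ext
      apply MulEquiv.ext
      intro s
      apply hinj
      have h1 := ha ⟨MulAut.conj s, hIG ⟨s, rfl⟩⟩ (by
        show (MulAut.conj s : MulAut S) ∈ I
        exact ⟨s, rfl⟩)
      have h2 := congrArg Subtype.val h1
      have h3 : MulAut.conj s * (a : MulAut S) = (a : MulAut S) * MulAut.conj s := h2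
      rw [← hconj, ← h3]
      simp
    · intro ω hle
      obtain ⟨k, rfl⟩ := QuotientGroup.mk_surjective ω
      apply hH
      rintro _ ⟨s, rfl⟩
      have h1 : k * ⟨MulAut.conj s, hIG ⟨s, rfl⟩⟩ * k⁻¹ ∈ N := hNn.conj_mem _ (by
        show (MulAut.conj s : MulAut S) ∈ I
        exact ⟨s, rfl⟩) k
      have h2 := hle h1
      rw [mem_stabilizer_iff] at h2
      have h3 : (((k * ⟨MulAut.conj s, hIG ⟨s, rfl⟩⟩ * k⁻¹ * k : G₀)) : G₀ ⧸ H₀) = (k : G₀ ⧸ H₀) := h2
      rw [eq_comm, QuotientGroup.eq] at h3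
      have h4 : k⁻¹ * (k * ⟨MulAut.conj s, hIG ⟨s, rfl⟩⟩ * k⁻¹ * k)
          = (⟨MulAut.conj s, hIG ⟨s, rfl⟩⟩ : G₀) := by group
      rw [h4] at h3
      exact h3
  let gG : G₀ := ⟨g, hgG⟩
  obtain ⟨ω, hω⟩ := h G₀ (G₀ ⧸ H₀) N hEnv eN gG
  obtain ⟨k, rfl⟩ := QuotientGroup.mk_surjective ω
  -- k = g^i * conj s⁻¹
  have hk : ∃ (i : ℤ) (s : S), k.1 = g ^ i * ((MulAut.conj s : MulAut S))⁻¹ :=
    sup_form g k.1 k.2
  obtain ⟨i, s, hks⟩ := hk
  refine ⟨s, ?_⟩
  intro z hz hzH
  obtain ⟨j, rfl⟩ := Subgroup.mem_zpowers_iff.1 hz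
  have hpow : ((gG ^ j : G₀) : MulAut S) = g ^ j := by
    rw [Subgroup.coe_zpow]
  have hmem : k⁻¹ * (gG ^ j * k) ∈ H₀ := by
    rw [Subgroup.mem_subgroupOf]
    have e0 : ((k⁻¹ * (gG ^ j * k) : G₀) : MulAut S)
        = (k : MulAut S)⁻¹ * (g ^ j * (k : MulAut S)) := by
      rw [Subgroup.coe_mul, Subgroup.coe_mul, hpow, Subgroup.coe_inv]
    rw [e0, hks]
    have e : (g ^ i * (MulAut.conj s)⁻¹)⁻¹ * (g ^ j * (g ^ i * (MulAut.conj s)⁻¹))
        = MulAut.conj s * (g ^ (-i) * g ^ j * g ^ i) * (MulAut.conj s)⁻¹ := by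
      rw [zpow_neg, mul_inv_rev, inv_inv]; simp only [mul_assoc]
    rw [e, ← zpow_add, ← zpow_add]
    have e2 : -i + j + i = j := by ring
    rw [e2]
    exact hzH
  have hfix : (gG ^ j) • (k : G₀ ⧸ H₀) = (k : G₀ ⧸ H₀) := by
    have : ((gG ^ j * k : G₀) : G₀ ⧸ H₀) = (k : G₀ ⧸ H₀) :=
      (QuotientGroup.eq.2 hmem).symm
    exact this
  have h1 := hω (gG ^ j) (Subgroup.zpow_mem_zpowers gG j) hfix
  rw [← hpow, h1]
  rfl

end conv

section basic

variable {G Ω : Type*} [Group G] [MulAction G Ω] {N : Subgroup G}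

/-- an element fixing all points is trivial -/
theorem Env.single [Nonempty Ω] (h : Env G Ω N) {x : G} (hx : ∀ ω : Ω, x • ω = ω) : x = 1 := by
  have hNn := h.norm
  let K : Subgroup G := (MulAction.toPermHom G Ω).ker
  have hK : ∀ z : G, z ∈ K ↔ ∀ ω : Ω, z • ω = ω := by
    intro z
    rw [MonoidHom.mem_ker]
    constructor
    · intro h ω
      have := congrArg (fun f : Equiv.Perm Ω => f ω) h
      simpa using this
    · intro h
      ext ω
      simpa using h ω
  have hKN : ∀ z ∈ K, z ∈ N → z = 1 := by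
    have hR : ((K.subgroupOf N)).Normal := Subgroup.normal_subgroupOf
    rcases h.simple.eq_bot_or_eq_top_of_normal _ hR with hb | ht
    · intro z hz hzN
      have : (⟨z, hzN⟩ : N) ∈ K.subgroupOf N := hz
      rw [hb, Subgroup.mem_bot] at this
      exact congrArg Subtype.val this
    · exfalso
      obtain ⟨ω⟩ := (inferInstance : Nonempty Ω)
      apply h.nofix ω
      intro n hn
      have : (⟨n, hn⟩ : N) ∈ K.subgroupOf N := by rw [ht]; trivial
      exact (hK n).1 this ω
  have hxK : x ∈ K := (hK x).2 hx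
  have hxc : x ∈ Subgroup.centralizer (N : Set G) := by
    rw [Subgroup.mem_centralizer_iff]
    intro n hn
    have h1 : n * x * n⁻¹ * x⁻¹ ∈ K := by
      have : K.Normal := inferInstance
      exact K.mul_mem (this.conj_mem _ hxK n) (K.inv_mem hxK)
    have h2 : n * x * n⁻¹ * x⁻¹ ∈ N := by
      have : n * x * n⁻¹ * x⁻¹ = n * (x * n⁻¹ * x⁻¹) := by group
      rw [this]
      exact N.mul_mem hn (hNn.conj_mem _ (N.inv_mem hn) x)
    have h3 := hKN _ h1 h2
    calc n * x = (n * x * n⁻¹ * x⁻¹) * (x * n) := by group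
      _ = x * n := by rw [h3, one_mul]
  rw [h.cent] at hxc
  exact Subgroup.mem_bot.1 hxc

/-- a nontrivial element moves some point -/
theorem Env.exists_move [Nonempty Ω] (h : Env G Ω N) {x : G} (hx : x ≠ 1) : ∃ ω : Ω, x • ω ≠ ω := by
  by_contra hno
  push Not at hno
  exact hx (h.single hno)

/-- the subgroup generated by the `N`-conjugates of a nontrivial element of `N` contains `N`; form used
for rule (a): `t ≠ 1` cannot be in all stabilisers -/
theorem Env.not_all [Nonempty Ω] (h : Env G Ω N) {t : G} (ht : t ≠ 1) :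
    ¬ ∀ ω : Ω, t ∈ stabilizer G ω := fun hall => ht (h.single hall)

end basic

section cov

variable {G Ω ι : Type*} [Group G] [MulAction G Ω]

/-- a member of a cover may be replaced by an element with more fixed points -/
theorem Cov.update [DecidableEq ι] {x : ι → G} (h : Cov Ω x) (i : ι) {y : G}
    (hy : ∀ ω : Ω, x i • ω = ω → (∀ j, j ≠ i → x j • ω ≠ ω) → y • ω = ω) :
    Cov Ω (Function.update x i y) := by
  intro ω
  by_cases hj : ∃ j, j ≠ i ∧ x j • ω = ω
  · obtain ⟨j, hji, hj⟩ := hj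
    exact ⟨j, by rwa [Function.update_of_ne hji]⟩
  · push Not at hj
    refine ⟨i, ?_⟩
    rw [Function.update_self]
    apply hy ω _ hj
    obtain ⟨k, hk⟩ := h ω
    by_cases hki : k = i
    · rw [← hki]; exact hk
    · exact (hj k hki hk).elim

/-- (MV): `x i` may be replaced by any element of the group generated by the conjugates of `x i` under
the centraliser of the other members -/
theorem Cov.mv [DecidableEq ι] {x : ι → G} (h : Cov Ω x) (i : ι) {y : G}
    (hy : y ∈ Subgroup.closure {z | ∃ c : G, (∀ j, j ≠ i → c * x j = x j * c) ∧ z = c * x i * c⁻¹}) :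
    Cov Ω (Function.update x i y) := by
  refine h.update i ?_
  intro ω hω hj
  have : Subgroup.closure {z | ∃ c : G, (∀ j, j ≠ i → c * x j = x j * c) ∧ z = c * x i * c⁻¹}
      ≤ stabilizer G ω := by
    rw [Subgroup.closure_le]
    rintro _ ⟨c, hc, rfl⟩
    -- the point c⁻¹ ω is not fixed by x j, j ≠ i
    have h1 : ∀ j, j ≠ i → x j • (c⁻¹ • ω) ≠ c⁻¹ • ω := by
      intro j hji hfix
      apply hj j hji
      have h2 : c • (x j • (c⁻¹ • ω)) = ω := by rw [hfix, smul_inv_smul]
      rw [← mul_smul, hc j hji, mul_smul, smul_inv_smul] at h2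
      exact h2
    obtain ⟨k, hk⟩ := h (c⁻¹ • ω)
    have hki : k = i := by
      by_contra hki
      exact h1 k hki hk
    subst hki
    show (c * x k * c⁻¹) • ω = ω
    rw [mul_smul, mul_smul, hk, smul_inv_smul]
  exact this hy

/-- commutator form of (MV) -/
theorem Cov.mv_comm [DecidableEq ι] {x : ι → G} (h : Cov Ω x) (i : ι) {c : G}
    (hc : ∀ j, j ≠ i → c * x j = x j * c) :
    Cov Ω (Function.update x i (c * x i * c⁻¹ * (x i)⁻¹)) := by
  apply h.mv i
  apply Subgroup.mul_mem
  · exact Subgroup.subset_closure ⟨c, hc, rfl⟩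
  · apply Subgroup.inv_mem
    exact Subgroup.subset_closure ⟨1, by simp, by simp⟩

/-- a minimal subcover -/
theorem Cov.exists_min [Finite ι] {x : ι → G} (h : Cov Ω x) :
    ∃ s : Set ι, Cov Ω (fun i : s => x i) ∧
      ∀ i : s, ∃ ω : Ω, x i • ω = ω ∧ ∀ j : s, j ≠ i → x j • ω ≠ ω := by
  classical
  have hex : ∃ s : Set ι, Cov Ω (fun i : s => x i) := ⟨Set.univ, fun ω => by
    obtain ⟨i, hi⟩ := h ω
    exact ⟨⟨i, trivial⟩, hi⟩⟩
  obtain ⟨s, hs⟩ := (Set.toFinite {s : Set ι | Cov Ω (fun i : s => x i)}).exists_minimal hex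
  refine ⟨s, hs.1, ?_⟩
  intro i
  by_contra hno
  push Not at hno
  have h1 : Cov Ω (fun j : (s \ {(i : ι)} : Set ι) => x j) := by
    intro ω
    obtain ⟨k, hk⟩ := hs.1 ω
    by_cases hki : k = i
    · subst hki
      obtain ⟨j, hj, hjω⟩ := hno ω hk
      exact ⟨⟨j, j.2, fun h => hj (Subtype.ext h)⟩, hjω⟩
    · exact ⟨⟨k, k.2, fun h => hki (Subtype.ext h)⟩, hk⟩
  have h2 := hs.2 h1 Set.sdiff_subset
  exact (h2 i.2).2 rfl

/-- the cover attached to an element without regular points -/
theorem exists_cover [Finite G] {g : G} (hg : ∀ ω : Ω, ¬ RegPt g ω) :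
    ∃ (ι : Type) (_ : Finite ι) (x : ι → G) (r : ι → ℕ), PF x r ∧ Cov Ω x ∧
      (∀ i, x i ∈ Subgroup.zpowers g) ∧
      ∀ i, ∃ ω : Ω, x i • ω = ω ∧ ∀ j, j ≠ i → x j • ω ≠ ω := by
  classical
  let κ : Type := {r : ℕ // r ∈ (orderOf g).primeFactors}
  let y : κ → G := fun r => g ^ (orderOf g / r.1)
  have hy0 : ∀ i : κ, orderOf (y i) = i.1 := by
    intro i
    have hp := Nat.prime_of_mem_primeFactors i.2
    have hd := Nat.dvd_of_mem_primeFactors i.2
    have hpos := orderOf_pos g
    rw [orderOf_pow' g (Nat.div_pos (Nat.le_of_dvd hpos hd) hp.pos).ne']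
    have h1 : (orderOf g).gcd (orderOf g / i.1) = orderOf g / i.1 :=
      Nat.gcd_eq_right (Nat.div_dvd_of_dvd hd)
    rw [h1, Nat.div_div_self hd hpos.ne']
  have hcov : Cov Ω y := by
    intro ω
    have h1 := hg ω
    unfold RegPt at h1
    push Not at h1
    obtain ⟨z, hz, hzω, hz1⟩ := h1
    -- a prime dividing the order of `z`
    obtain ⟨q, hq, hqd⟩ := Nat.exists_prime_and_dvd (n := orderOf z) (fun h => hz1 (orderOf_eq_one_iff.1 h))
    have hzg : orderOf z ∣ orderOf g := orderOf_dvd_of_mem_zpowers hz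
    have hqg : q ∈ (orderOf g).primeFactors :=
      Nat.mem_primeFactors.2 ⟨hq, hqd.trans hzg, (orderOf_pos g).ne'⟩
    refine ⟨⟨q, hqg⟩, ?_⟩
    -- `y q` is a power of `z`
    have hsub : y ⟨q, hqg⟩ ∈ Subgroup.zpowers z := by
      obtain ⟨k, rfl⟩ := hz
      set n := orderOf g with hn
      have hnpos : 0 < n := orderOf_pos g
      -- order of z = n / gcd(n, k)
      have hz' : ∃ m : ℕ, g ^ m = g ^ k := by
        have := (isOfFinOrder_of_finite g).mem_powers_iff_mem_zpowers.2 (Subgroup.zpow_mem_zpowers g k)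
        exact this
      obtain ⟨m, hm⟩ := hz'
      have hqd' : q ∣ n / n.gcd m := by
        have h2 : orderOf (g ^ m) = n / n.gcd m := orderOf_pow g
        have h3 : q ∣ orderOf (g ^ m) := by
          rw [hm]; exact hqd
        rwa [h2] at h3
      -- gcd n m ∣ n / q
      have h4 : n.gcd m ∣ n / q := by
        obtain ⟨t, ht⟩ := hqd'
        have h5 : n = n.gcd m * (q * t) := by
          rw [← ht, Nat.mul_div_cancel' (Nat.gcd_dvd_left n m)]
        refine ⟨t, ?_⟩
        conv_lhs => rw [h5]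
        rw [show n.gcd m * (q * t) = q * (n.gcd m * t) by ring]
        exact Nat.mul_div_cancel_left _ hq.pos
      -- so g ^ (n / q) is a power of g ^ m
      obtain ⟨t, ht⟩ := h4
      have h6 : g ^ (n.gcd m) ∈ Subgroup.zpowers (g ^ m) := by
        refine ⟨n.gcdB m, ?_⟩
        show (g ^ m) ^ (n.gcdB m) = g ^ (n.gcd m)
        have h7 := Nat.gcd_eq_gcd_ab n m
        have h8 : g ^ ((n.gcd m : ℕ) : ℤ) = g ^ ((n : ℤ) * n.gcdA m + (m : ℤ) * n.gcdB m) := by
          rw [h7]
        rw [zpow_natCast, zpow_add, zpow_mul, zpow_mul, zpow_natCast, zpow_natCast, hn,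
          pow_orderOf_eq_one, one_zpow, one_mul] at h8
        exact h8.symm
      show g ^ (n / q) ∈ Subgroup.zpowers (g ^ k)
      rw [ht, pow_mul, ← hm]
      exact Subgroup.pow_mem _ h6 t
    obtain ⟨l, hl⟩ := Subgroup.mem_zpowers_iff.1 hsub
    rw [← hl]
    have : z ^ l ∈ stabilizer G ω := Subgroup.zpow_mem _ hzω l
    exact this
  obtain ⟨s, hs1, hs2⟩ := hcov.exists_min
  refine ⟨s, inferInstance, fun i => y i, fun i => i.1.1, ?_, hs1, ?_, hs2⟩
  · refine ⟨fun i => Nat.prime_of_mem_primeFactors i.1.2, ?_, ?_, ?_, ?_⟩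
    · intro i j hij
      exact Subtype.ext (Subtype.ext hij)
    · intro i
      have := pow_orderOf_eq_one (y i)
      rwa [hy0] at this
    · intro i h1
      have h2 := hy0 i
      rw [h1, orderOf_one] at h2
      exact (Nat.prime_of_mem_primeFactors i.1.2).one_lt.ne h2
    · intro i j
      exact (Commute.pow_pow_self g _ _)
  · intro i
    exact Subgroup.pow_mem _ (Subgroup.mem_zpowers g) _

end cov

section rows

/-- minimality of a cover -/
def CovMin {G ι : Type*} [Group G] (Ω : Type*) [MulAction G Ω] (x : ι → G) : Prop :=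
  ∀ i, ∃ ω : Ω, x i • ω = ω ∧ ∀ j, j ≠ i → x j • ω ≠ ω

/-- no minimal cover by commuting elements of different prime orders (a row theorem for `S`) -/
def NoCov (S : Type) [Group S] : Prop :=
  ∀ (G : Type) [Group G] [Finite G] (Ω : Type) [Finite Ω] [Nonempty Ω] [MulAction G Ω]
    (N : Subgroup G), Env G Ω N → (N ≃* S) →
    ∀ (ι : Type) [Finite ι] (x : ι → G) (r : ι → ℕ), PF x r → Cov Ω x → CovMin Ω x → False

theorem rc_of_noCov {S : Type} [Group S] [Finite S] (hS : IsSimpleGroup S)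
    (hSn : ¬ IsMulCommutative S) (h : NoCov S) : RC S := by
  apply rc_of_set hS hSn
  intro G _ _ Ω _ _ _ N hE e g
  by_contra hno
  push Not at hno
  obtain ⟨ι, hι, x, r, h1, h2, -, h3⟩ := exists_cover hno
  exact h G Ω N hE e ι x r h1 h2 h3

/-- a cover has at least two members -/
theorem Cov.two {G Ω ι : Type*} [Group G] [MulAction G Ω] [Nonempty Ω] {N : Subgroup G}
    (hE : Env G Ω N) {x : ι → G} (h : Cov Ω x) (hne : ∀ i, x i ≠ 1) (i : ι) : ∃ j, j ≠ i := by
  obtain ⟨ω, hω⟩ := hE.exists_move (hne i)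
  obtain ⟨j, hj⟩ := h ω
  exact ⟨j, fun hji => hω (hji ▸ hj)⟩

end rows

end Cfsg.Agent.H106.RC
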