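import Mathlib
import Cfsg.Prelude.Def_Classical

/-!
# S3510 (regular cycles, classical socle): interface of the hub

* `HasReg g w N`: some point `n • w` with `n ∈ N` is in a regular cycle of `g`.
* `RCe S g`: the automorphism `g` of `S` has a regular point in the `Inn S`-orbit of every point not
  fixed by `Inn S` (subgroup formulation, `H` = stabiliser in `MulAut S`).
* `RC S`: the same for every `g`.
* rows: `Row P` = every simple classical `S` with `P S`, not `A5, A6, A8`, has `RC S`, given
  `RC` for all smaller simple classical groups which are not `A5, A6, A8`.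
-/

set_option autoImplicit false
open Cfsg

namespace Cfsg.Agent.H106.RC

/-- every nontrivial element of `⟨g⟩` moves the point `w` -/
def RegPt {G Ω : Type*} [Group G] [MulAction G Ω] (g : G) (w : Ω) : Prop :=
  ∀ z ∈ Subgroup.zpowers g, z • w = w → z = 1

/-- some point of the `N`-orbit of `w` is regular for `g` -/
def HasReg {G Ω : Type*} [Group G] [MulAction G Ω] (N : Subgroup G) (w : Ω) (g : G) : Prop :=
  ∃ n ∈ N, RegPt g (n • w)

/-- regular cycle property of the automorphism `g` of `S`; `H` plays the role of a stabiliser -/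
def RCe (S : Type*) [Group S] (g : MulAut S) : Prop :=
  ∀ H : Subgroup (MulAut S), ¬ (MulAut.conj : S →* MulAut S).range ≤ H →
    ∃ s : S, ∀ z ∈ Subgroup.zpowers g, MulAut.conj s * z * (MulAut.conj s)⁻¹ ∈ H → z = 1

/-- all automorphisms of `S` have the regular cycle property -/
def RC (S : Type*) [Group S] : Prop := ∀ g : MulAut S, RCe S g

/-- simple classical groups -/
def Cl (S : Type*) [Group S] : Prop :=
  IsPSL S ∨ IsPSp S ∨ IsPSU S ∨ IsPOmegaOdd S ∨ IsPOmegaPlus S ∨ IsPOmegaMinus S

/-- the three exceptions -/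
def Exc (S : Type*) [Group S] : Prop :=
  Nonempty (S ≃* alternatingGroup (Fin 5)) ∨ Nonempty (S ≃* alternatingGroup (Fin 6)) ∨
    Nonempty (S ≃* alternatingGroup (Fin 8))

/-- induction hypothesis: `RC` for all smaller simple classical groups, not exceptional -/
def IH (m : ℕ) : Prop :=
  ∀ (S : Type) [Group S] [Finite S], IsSimpleGroup S → ¬ IsMulCommutative S → Cl S → ¬ Exc S →
    Nat.card S < m → RC S

/-- the row for a family `P` -/
def Row (P : ∀ (S : Type) [Group S], Prop) : Prop :=
  ∀ (S : Type) [Group S] [Finite S], IsSimpleGroup S → ¬ IsMulCommutative S → P S → ¬ Exc S →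
    IH (Nat.card S) → RC S

/-- assembly of the induction -/
theorem rc_of_rows
    (h1 : Row (fun S _ => IsPSL S)) (h2 : Row (fun S _ => IsPSp S)) (h3 : Row (fun S _ => IsPSU S))
    (h4 : Row (fun S _ => IsPOmegaOdd S)) (h5 : Row (fun S _ => IsPOmegaPlus S))
    (h6 : Row (fun S _ => IsPOmegaMinus S)) :
    ∀ (S : Type) [Group S] [Finite S], IsSimpleGroup S → ¬ IsMulCommutative S → Cl S → ¬ Exc S →
      RC S := by
  have key : ∀ m : ℕ, IH m := by
    intro m
    induction m using Nat.strong_induction_on with
    | _ m ih =>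
      intro S _ _ hs hc hcl he hlt
      have ihS := ih (Nat.card S) hlt
      rcases hcl with h | h | h | h | h | h
      · exact h1 S hs hc h he ihS
      · exact h2 S hs hc h he ihS
      · exact h3 S hs hc h he ihS
      · exact h4 S hs hc h he ihS
      · exact h5 S hs hc h he ihS
      · exact h6 S hs hc h he ihS
  intro S _ _ hs hc hcl he
  exact key (Nat.card S + 1) S hs hc hcl he (Nat.lt_succ_self _)

section transport

variable {S S' : Type*} [Group S] [Group S']

/-- transport of `RCe` along an isomorphism -/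
theorem RCe.congr (e : S ≃* S') {g : MulAut S} (h : RCe S g) : RCe S' (MulAut.congr e g) := by
  intro H hH
  have hconj : ∀ s : S, MulAut.congr e (MulAut.conj s) = MulAut.conj (e s) := by
    intro s
    ext x
    simp [MulAut.congr]
  have hH' : ¬ (MulAut.conj : S →* MulAut S).range ≤ H.comap (MulAut.congr e).toMonoidHom := by
    intro hle
    apply hH
    rintro _ ⟨s', rfl⟩
    have := hle ⟨e.symm s', rfl⟩
    rw [Subgroup.mem_comap] at this
    have h2 : (MulAut.congr e) (MulAut.conj (e.symm s')) = MulAut.conj s' := by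
      rw [hconj]; simp
    have h3 : (MulAut.congr e) (MulAut.conj (e.symm s')) ∈ H := this
    rwa [h2] at h3
  obtain ⟨s, hs⟩ := h _ hH'
  refine ⟨e s, ?_⟩
  intro z hz hzH
  obtain ⟨k, hk⟩ := Subgroup.mem_zpowers_iff.1 hz
  have hz' : z = MulAut.congr e (g ^ k) := by rw [map_zpow, hk]
  have h1 := hs (g ^ k) (Subgroup.zpow_mem_zpowers g k) (by
    rw [Subgroup.mem_comap]
    show MulAut.congr e (MulAut.conj s * g ^ k * (MulAut.conj s)⁻¹) ∈ H
    rw [map_mul, map_mul, map_inv, hconj, ← hz']
    exact hzH)
  rw [hz', h1, map_one]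

theorem RC.congr (e : S ≃* S') (h : RC S) : RC S' := by
  intro g
  have := (h ((MulAut.congr e).symm g)).congr e
  rwa [MulEquiv.apply_symm_apply] at this

end transport

section base

/-- automorphisms of prime power order (in particular of order `1`) have the property as soon as the
centre of `S` is trivial and nothing else -/
theorem rce_of_prime_pow {S : Type*} [Group S] (hS : IsSimpleGroup S) (g : MulAut S) {p k : ℕ}
    (hp : p.Prime) (hg : orderOf g = p ^ k) : RCe S g := by
  classical
  intro H hH
  by_cases hk : k = 0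
  · subst hk
    have : g = 1 := orderOf_eq_one_iff.1 (by simpa using hg)
    subst this
    refine ⟨1, fun z hz _ => ?_⟩
    simpa using hz
  -- the subgroup of order `p` of `⟨g⟩`
  set x : MulAut S := g ^ (p ^ (k - 1)) with hx
  have hxne : x ≠ 1 := by
    intro h1
    have h2 : orderOf g ∣ p ^ (k - 1) := orderOf_dvd_of_pow_eq_one h1
    rw [hg] at h2
    have h3 := (Nat.pow_dvd_pow_iff_le_right hp.one_lt).1 h2
    omega
  by_contra hcon
  push Not at hcon
  apply hH
  -- every conjugate of `x` by an inner automorphism is in `H`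
  have hall : ∀ s : S, MulAut.conj s * x * (MulAut.conj s)⁻¹ ∈ H := by
    intro s
    obtain ⟨z, hz, hzH, hz1⟩ := hcon s
    -- `x` is a power of `z`
    have hzk : ∃ j : ℕ, z ^ j = x := by
      obtain ⟨a, rfl⟩ := Subgroup.mem_zpowers_iff.1 hz
      have hfin : IsOfFinOrder g := by
        rw [← orderOf_pos_iff, hg]; exact pow_pos hp.pos _
      obtain ⟨a', ha'⟩ : ∃ a' : ℕ, g ^ a' = g ^ a := by
        have := hfin.mem_powers_iff_mem_zpowers.2 (Subgroup.zpow_mem_zpowers g a)
        exact this
      rw [← ha'] at hz1 ⊢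
      -- write a' = p^i * b with b coprime to p
      have ha0 : a' ≠ 0 := by rintro rfl; simp at hz1
      obtain ⟨i, b, hb, hab⟩ := Nat.exists_eq_pow_mul_and_not_dvd ha0 p hp.one_lt.ne'
      have hi : i < k := by
        by_contra hik
        push Not at hik
        apply hz1
        rw [hab]
        apply orderOf_dvd_iff_pow_eq_one.1
        rw [hg]
        exact Dvd.dvd.mul_right (pow_dvd_pow p hik) b
      have hcop : Nat.Coprime b (p ^ k) := by
        apply Nat.Coprime.pow_right
        exact ((Nat.Prime.coprime_iff_not_dvd hp).2 hb).symm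
      obtain ⟨c, hc⟩ := Nat.exists_mul_mod_eq_one_of_coprime hcop (Nat.one_lt_pow hk hp.one_lt)
      refine ⟨p ^ (k - 1 - i) * c, ?_⟩
      rw [← pow_mul, hab]
      have e1 : p ^ i * b * (p ^ (k - 1 - i) * c) = p ^ (k - 1) * (b * c) := by
        have : p ^ (k - 1) = p ^ i * p ^ (k - 1 - i) := by
          rw [← pow_add]; congr 1; omega
        rw [this]; ring
      rw [e1]
      have e2 : g ^ (p ^ (k - 1) * (b * c)) = g ^ (p ^ (k - 1)) := by
        rw [pow_eq_pow_iff_modEq, hg]
        have e3 : b * c ≡ 1 [MOD p ^ k] := by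
          rw [Nat.ModEq, hc.2, Nat.mod_eq_of_lt (Nat.one_lt_pow hk hp.one_lt)]
        calc p ^ (k - 1) * (b * c) ≡ p ^ (k - 1) * 1 [MOD p ^ k] := Nat.ModEq.mul_left _ e3
          _ = p ^ (k - 1) := by ring
      rw [e2]
    obtain ⟨j, hj⟩ := hzk
    have := H.pow_mem hzH j
    rwa [conj_pow, hj] at this
  -- hence `[Inn S, x] ≤ H`
  have hx0 := hall 1
  simp only [map_one, one_mul, inv_one, mul_one] at hx0
  have hcomm : ∀ s : S, MulAut.conj (s * (x s)⁻¹) ∈ H := by
    intro s
    have h1 := hall s
    have h2 := H.mul_mem h1 (H.inv_mem hx0)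
    have h3 : MulAut.conj s * x * (MulAut.conj s)⁻¹ * x⁻¹ = MulAut.conj (s * (x s)⁻¹) := by
      ext t
      simp [MulAut.conj_apply, mul_assoc]
    rwa [h3] at h2
  -- the closure of these is a nontrivial normal subgroup
  have hex : ∃ s : S, x s ≠ s := by
    by_contra hno
    push Not at hno
    exact hxne (MulEquiv.ext hno)
  obtain ⟨s0, hs0⟩ := hex
  let M : Subgroup S := Subgroup.normalClosure {t | ∃ s : S, t = s * (x s)⁻¹}
  have hclos : Subgroup.closure {t | ∃ s : S, t = s * (x s)⁻¹} = M := by
    apply le_antisymm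
    · exact Subgroup.closure_le_normalClosure
    · have hn : (Subgroup.closure {t | ∃ s : S, t = s * (x s)⁻¹}).Normal := by
        constructor
        intro n hn u
        refine Subgroup.closure_induction (p := fun n _ => u * n * u⁻¹ ∈ Subgroup.closure {t | ∃ s : S, t = s * (x s)⁻¹}) ?_ ?_ ?_ ?_ hn
        · rintro _ ⟨s, rfl⟩
          have h1 : u * (s * (x s)⁻¹) * u⁻¹ = ((u * s) * (x (u * s))⁻¹) * (u * (x u)⁻¹)⁻¹ := by
            rw [map_mul]; group
          rw [h1]
          exact Subgroup.mul_mem _ (Subgroup.subset_closure ⟨u * s, rfl⟩)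
            (Subgroup.inv_mem _ (Subgroup.subset_closure ⟨u, rfl⟩))
        · simp
        · intro a b _ _ ha hb
          have := Subgroup.mul_mem _ ha hb
          have e : u * (a * b) * u⁻¹ = u * a * u⁻¹ * (u * b * u⁻¹) := by group
          rwa [e]
        · intro a _ ha
          have := Subgroup.inv_mem _ ha
          have e : u * a⁻¹ * u⁻¹ = (u * a * u⁻¹)⁻¹ := by group
          rwa [e]
      exact Subgroup.normalClosure_le_normal (N := Subgroup.closure {t | ∃ s : S, t = s * (x s)⁻¹})
        Subgroup.subset_closure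
  have hMtop : M = ⊤ := by
    rcases hS.eq_bot_or_eq_top_of_normal M Subgroup.normalClosure_normal with h | h
    · exfalso
      have : s0 * (x s0)⁻¹ ∈ M := Subgroup.subset_normalClosure ⟨s0, rfl⟩
      rw [h, Subgroup.mem_bot, mul_inv_eq_one] at this
      exact hs0 this.symm
    · exact h
  rintro _ ⟨s, rfl⟩
  have hs : s ∈ Subgroup.closure {t | ∃ s : S, t = s * (x s)⁻¹} := by
    rw [hclos, hMtop]; trivial
  have : Subgroup.closure {t | ∃ s : S, t = s * (x s)⁻¹} ≤ H.comap (MulAut.conj : S →* MulAut S) := by
    rw [Subgroup.closure_le]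
    rintro _ ⟨s, rfl⟩
    exact hcomm s
  exact this hs

end base

end Cfsg.Agent.H106.RC
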