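import Mathlib

/-!
# Galois descent for semilinear maps over finite fields
-/

set_option autoImplicit false

namespace Cfsg.Agent.H106.RC

open Module

section

variable {F : Type*} [Field F]

/-- the iterates of a field automorphism of order `r` are linearly independent -/
theorem sigma_indep (σ : F ≃+* F) (r : ℕ) (hσ : orderOf σ = r) (f : Fin r → F)
    (h : ∀ a : F, ∑ i : Fin r, (σ ^ (i : ℕ)) a * f i = 0) : ∀ i, f i = 0 := by
  classical
  let φ : Fin r → (F →* F) := fun i => ((σ ^ (i : ℕ) : F ≃+* F) : F →* F)
  have hinj : Function.Injective φ := by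
    intro i j hij
    have h1 : σ ^ (i : ℕ) = σ ^ (j : ℕ) := by
      ext a
      exact congrArg (fun g : F →* F => g a) hij
    have h2 := pow_eq_pow_iff_modEq.1 h1
    rw [hσ] at h2
    have h3 : (i : ℕ) = j := Nat.ModEq.eq_of_lt_of_lt h2 i.2 j.2
    exact Fin.ext h3
  have hli := (linearIndependent_monoidHom F F).comp φ hinj
  rw [Fintype.linearIndependent_iff] at hli
  intro i
  apply hli f _ i
  ext a
  have := h a
  simp only [Finset.sum_apply, Pi.smul_apply, smul_eq_mul, Function.comp_apply, Pi.zero_apply]
  rw [← this]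
  apply Finset.sum_congr rfl
  intro j _
  rw [mul_comm]
  rfl

/-- norms are onto the fixed field -/
theorem norm_exists [Finite F] (σ : F ≃+* F) (r : ℕ) (hσ : orderOf σ = r) (c : F)
    (hc : σ c = c) : ∃ a : F, ∏ i ∈ Finset.range r, (σ ^ i) a = c := by
  classical
  let Gm := Subgroup.zpowers σ
  have : Finite (F ≃+* F) := Finite.of_injective (fun e : F ≃+* F => (e : F → F)) DFunLike.coe_injective
  have : Fintype Gm := Fintype.ofFinite _
  have hcm : c ∈ FixedPoints.subfield Gm F := by
    rintro ⟨g, hg⟩
    obtain ⟨k, rfl⟩ := Subgroup.mem_zpowers_iff.1 hg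
    show (σ ^ k) c = c
    have hst : σ ∈ MulAction.stabilizer (F ≃+* F) c := hc
    exact (MulAction.stabilizer (F ≃+* F) c).zpow_mem hst k
  obtain ⟨a, ha⟩ := FiniteField.norm_surjective (FixedPoints.subfield Gm F) F ⟨c, hcm⟩
  refine ⟨a, ?_⟩
  have h1 := Algebra.norm_eq_prod_automorphisms (FixedPoints.subfield Gm F) a
  rw [ha] at h1
  have h2 : algebraMap (FixedPoints.subfield Gm F) F ⟨c, hcm⟩ = c := rfl
  rw [h2] at h1
  rw [h1]
  rw [← Equiv.prod_comp (FixedPoints.toAlgAutMulEquiv Gm F).toEquiv (fun g => g a)]
  have hfo : IsOfFinOrder σ := isOfFinOrder_of_finite σ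
  rw [← Equiv.prod_comp (finEquivZPowers hfo) (fun g : Gm => ((FixedPoints.toAlgAutMulEquiv Gm F).toEquiv g) a)]
  rw [Finset.prod_range, ← hσ]
  apply Finset.prod_congr rfl
  intro i _
  rfl

variable {V : Type*} [AddCommGroup V] [Module F V]

/-- descent for a semilinear map with `y ^ r = 1` -/
theorem descent_one [FiniteDimensional F V] (σ : F ≃+* F) (r : ℕ) (hr : 0 < r)
    (hσ : orderOf σ = r) (y : V → V) (hadd : ∀ v w, y (v + w) = y v + y w)
    (hy : ∀ (a : F) v, y (a • v) = σ a • y v) (hyr : ∀ v, y^[r] v = v) :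
    ∃ b : Basis (Fin (finrank F V)) F V, ∀ i, y (b i) = b i := by
  classical
  have h0 : y 0 = 0 := by
    have := hadd 0 0
    rw [add_zero] at this
    exact (left_eq_add (a := y 0)).1 this
  have hsum : ∀ (n : ℕ) (f : ℕ → V), y (∑ i ∈ Finset.range n, f i) = ∑ i ∈ Finset.range n, y (f i) := by
    intro n f
    induction n with
    | zero => simpa using h0
    | succ n ih => rw [Finset.sum_range_succ, Finset.sum_range_succ, hadd, ih]
  have hit : ∀ (n : ℕ) (a : F) (v : V), y^[n] (a • v) = (σ ^ n) a • y^[n] v := by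
    intro n
    induction n with
    | zero => intro a v; simp
    | succ n ih =>
      intro a v
      rw [Function.iterate_succ_apply', ih, hy, Function.iterate_succ_apply', pow_succ']
      rfl
  -- the traces are fixed
  have htr : ∀ v, y (∑ i ∈ Finset.range r, y^[i] v) = ∑ i ∈ Finset.range r, y^[i] v := by
    intro v
    rw [hsum]
    have h1 : ∀ i, y (y^[i] v) = y^[i + 1] v := fun i => (Function.iterate_succ_apply' y i v).symm
    simp only [h1]
    have h2 := Finset.sum_range_succ' (fun i => y^[i] v) r
    have h3 := Finset.sum_range_succ (fun i => y^[i] v) r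
    rw [h3] at h2
    rw [hyr v, Function.iterate_zero, id] at h2
    exact (add_right_cancel h2).symm
  let V0 : Set V := {v | y v = v}
  have hspan : Submodule.span F V0 = ⊤ := by
    by_contra hne
    have hlt : Submodule.span F V0 < ⊤ := lt_top_iff_ne_top.2 hne
    obtain ⟨f, hf, hf2⟩ := Submodule.exists_le_ker_of_lt_top _ hlt
    apply hf
    ext v
    have key : ∀ a : F, ∑ i : Fin r, (σ ^ (i : ℕ)) a * f (y^[(i : ℕ)] v) = 0 := by
      intro a
      have h1 : (∑ i ∈ Finset.range r, y^[i] (a • v)) ∈ V0 := htr (a • v)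
      have h2 := hf2 (Submodule.subset_span h1)
      rw [LinearMap.mem_ker, map_sum] at h2
      rw [← Fin.sum_univ_eq_sum_range (fun i => f (y^[i] (a • v)))] at h2
      rw [← h2]
      apply Finset.sum_congr rfl
      intro i _
      rw [hit, map_smul, smul_eq_mul]
    have := sigma_indep σ r hσ (fun i => f (y^[(i : ℕ)] v)) key ⟨0, hr⟩
    simpa using this
  obtain ⟨s, hs1, hs2, hs3⟩ := exists_linearIndependent F V0
  rw [hspan] at hs2
  let b0 : Basis s F V := Basis.mk hs3 (by rw [Subtype.range_coe, hs2])
  have hfin : Finite s := Module.Finite.finite_basis b0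
  have : Fintype s := Fintype.ofFinite s
  have hcard : Fintype.card s = finrank F V := (Module.finrank_eq_card_basis b0).symm
  let e : s ≃ Fin (finrank F V) := (Fintype.equivFin s).trans (finCongr hcard)
  refine ⟨b0.reindex e, ?_⟩
  intro i
  rw [Basis.reindex_apply]
  have : b0 (e.symm i) = ((e.symm i : s) : V) := by
    simp [b0]
  rw [this]
  exact hs1 (e.symm i).2

/-- descent for a semilinear map with `x ^ r` scalar -/
theorem descent [Finite F] [FiniteDimensional F V] (σ : F ≃+* F) (r : ℕ) (hr : 0 < r)
    (hσ : orderOf σ = r) (x : V ≃+ V) (hx : ∀ (a : F) v, x (a • v) = σ a • x v) (c : F)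
    (hc : ∀ v, (x : V → V)^[r] v = c • v) :
    ∃ a : F, a ≠ 0 ∧ ∃ b : Basis (Fin (finrank F V)) F V, ∀ i, a • x (b i) = b i := by
  classical
  by_cases hV : ∃ v : V, v ≠ 0
  · obtain ⟨v0, hv0⟩ := hV
    have hinj : Function.Injective ((x : V → V)^[r]) := x.injective.iterate r
    have hx0 : x 0 = 0 := map_zero x
    have hc0 : c ≠ 0 := by
      rintro rfl
      have h1 := hc v0
      rw [zero_smul] at h1
      have h2 : (x : V → V)^[r] 0 = 0 := Function.iterate_fixed hx0 r
      exact hv0 (hinj (h1.trans h2.symm))
    have hσc : σ c = c := by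
      have h1 : (x : V → V)^[r + 1] v0 = c • x v0 := by
        rw [Function.iterate_succ_apply, hc]
      have h2 : (x : V → V)^[r + 1] v0 = σ c • x v0 := by
        rw [Function.iterate_succ_apply', hc, hx]
      have h3 : (σ c - c) • x v0 = 0 := by
        rw [sub_smul, ← h1, ← h2, sub_self]
      rcases smul_eq_zero.1 h3 with h | h
      · exact sub_eq_zero.1 h
      · exact (hv0 (by simpa using h)).elim
    obtain ⟨a, ha⟩ := norm_exists σ r hσ c⁻¹ (by rw [map_inv₀, hσc])
    have ha0 : a ≠ 0 := by
      rintro rfl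
      have : (∏ i ∈ Finset.range r, (σ ^ i) (0 : F)) = 0 := by
        apply Finset.prod_eq_zero (Finset.mem_range.2 hr)
        exact map_zero _
      rw [this] at ha
      exact inv_ne_zero hc0 ha.symm
    refine ⟨a, ha0, ?_⟩
    have hit : ∀ (n : ℕ) (v : V), (fun w => a • x w)^[n] v =
        (∏ i ∈ Finset.range n, (σ ^ i) a) • (x : V → V)^[n] v := by
      intro n
      induction n with
      | zero => intro v; simp
      | succ n ih =>
        intro v
        rw [Function.iterate_succ_apply, ih, Function.iterate_succ_apply]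
        have hxs : ∀ (m : ℕ) (d : F) (w : V), (x : V → V)^[m] (d • w) = (σ ^ m) d • (x : V → V)^[m] w := by
          intro m
          induction m with
          | zero => intro d w; simp
          | succ m ihm =>
            intro d w
            rw [Function.iterate_succ_apply', ihm, hx, Function.iterate_succ_apply', pow_succ']
            rfl
        rw [hxs, smul_smul, Finset.prod_range_succ]
    apply descent_one σ r hr hσ (fun w => a • x w)
    · intro v w
      rw [map_add, smul_add]
    · intro d v
      rw [hx, smul_smul, smul_smul, mul_comm]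
    · intro v
      rw [hit, ha, hc, smul_smul, inv_mul_cancel₀ hc0, one_smul]
  · push Not at hV
    refine ⟨1, one_ne_zero, Module.finBasis F V, ?_⟩
    intro i
    rw [hV (Module.finBasis F V i)]
    simp

end

end Cfsg.Agent.H106.RC
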