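import Cfsg.Agent.H106.RC.Defs

/-!
# S3510 from `RC` (non exceptional) and the statement for `A5`, `A6`, `A8`
-/

set_option autoImplicit false
open Cfsg

namespace Cfsg.Agent.H106.RC

theorem IsPSL.cgr {S S' : Type*} [Group S] [Group S'] (e : S ≃* S') (h : IsPSL S) : IsPSL S' := by
  obtain ⟨F, i1, i2, n, h1, h2, ⟨f⟩⟩ := h
  exact ⟨F, i1, i2, n, h1, h2, ⟨e.symm.trans f⟩⟩

theorem IsPSp.cgr {S S' : Type*} [Group S] [Group S'] (e : S ≃* S') (h : IsPSp S) : IsPSp S' := by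
  obtain ⟨F, i1, i2, n, h1, h2, ⟨f⟩⟩ := h
  exact ⟨F, i1, i2, n, h1, h2, ⟨e.symm.trans f⟩⟩

theorem IsPSU.cgr {S S' : Type*} [Group S] [Group S'] (e : S ≃* S') (h : IsPSU S) : IsPSU S' := by
  obtain ⟨F, i1, i2, n, q, h1, h2, h3, ⟨f⟩⟩ := h
  exact ⟨F, i1, i2, n, q, h1, h2, h3, ⟨e.symm.trans f⟩⟩

theorem IsPOmegaOdd.cgr {S S' : Type*} [Group S] [Group S'] (e : S ≃* S') (h : IsPOmegaOdd S) :
    IsPOmegaOdd S' := by
  obtain ⟨F, i1, i2, n, h1, h2, ⟨f⟩⟩ := h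
  exact ⟨F, i1, i2, n, h1, h2, ⟨e.symm.trans f⟩⟩

theorem IsPOmegaPlus.cgr {S S' : Type*} [Group S] [Group S'] (e : S ≃* S') (h : IsPOmegaPlus S) :
    IsPOmegaPlus S' := by
  obtain ⟨F, i1, i2, n, h1, ⟨f⟩⟩ := h
  exact ⟨F, i1, i2, n, h1, ⟨e.symm.trans f⟩⟩

theorem IsPOmegaMinus.cgr {S S' : Type*} [Group S] [Group S'] (e : S ≃* S') (h : IsPOmegaMinus S) :
    IsPOmegaMinus S' := by
  obtain ⟨F, i1, i2, n, a, b, h1, h2, ⟨f⟩⟩ := h
  exact ⟨F, i1, i2, n, a, b, h1, h2, ⟨e.symm.trans f⟩⟩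

theorem Cl.cgr {S S' : Type*} [Group S] [Group S'] (e : S ≃* S') (h : Cl S) : Cl S' := by
  rcases h with h | h | h | h | h | h
  · exact Or.inl (IsPSL.cgr e h)
  · exact Or.inr (Or.inl (IsPSp.cgr e h))
  · exact Or.inr (Or.inr (Or.inl (IsPSU.cgr e h)))
  · exact Or.inr (Or.inr (Or.inr (Or.inl (IsPOmegaOdd.cgr e h))))
  · exact Or.inr (Or.inr (Or.inr (Or.inr (Or.inl (IsPOmegaPlus.cgr e h)))))
  · exact Or.inr (Or.inr (Or.inr (Or.inr (Or.inr (IsPOmegaMinus.cgr e h)))))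

theorem Exc.cgr {S S' : Type*} [Group S] [Group S'] (e : S ≃* S') (h : Exc S) : Exc S' := by
  rcases h with ⟨⟨f⟩⟩ | ⟨⟨f⟩⟩ | ⟨⟨f⟩⟩
  · exact Or.inl ⟨e.symm.trans f⟩
  · exact Or.inr (Or.inl ⟨e.symm.trans f⟩)
  · exact Or.inr (Or.inr ⟨e.symm.trans f⟩)

theorem isSimple_cgr {S S' : Type*} [Group S] [Group S'] (e : S ≃* S') (h : IsSimpleGroup S) :
    IsSimpleGroup S' := by
  haveI := h
  haveI : Nontrivial S' := e.symm.toEquiv.nontrivial
  exact IsSimpleGroup.isSimpleGroup_of_surjective e.toMonoidHom e.surjective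

theorem notComm_cgr {S S' : Type*} [Group S] [Group S'] (e : S ≃* S') (h : ¬ IsMulCommutative S) :
    ¬ IsMulCommutative S' := by
  intro h'
  apply h
  constructor
  constructor
  intro a b
  apply e.injective
  rw [map_mul, map_mul]
  exact h'.is_comm.comm _ _

/-- `RC` for groups in any universe -/
theorem rc_univ
    (hRC : ∀ (S : Type) [Group S] [Finite S], IsSimpleGroup S → ¬ IsMulCommutative S → Cl S →
      ¬ Exc S → RC S)
    {T : Type*} [Group T] [Finite T] (h1 : IsSimpleGroup T) (h2 : ¬ IsMulCommutative T)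
    (h3 : Cl T) (h4 : ¬ Exc T) : RC T := by
  haveI : Small.{0} T := inferInstance
  let e : Shrink.{0} T ≃* T := Shrink.mulEquiv
  haveI : Finite (Shrink.{0} T) := Finite.of_equiv T e.symm.toEquiv
  have := hRC (Shrink.{0} T) (isSimple_cgr e.symm h1) (notComm_cgr e.symm h2) (Cl.cgr e.symm h3)
    (fun h => h4 (Exc.cgr e h))
  exact this.congr e

/-- an element without regular cycle contradicts `RC` of the normal subgroup -/
theorem no_rc_of_noreg {G : Type*} [Group G] {Ω : Type*} [MulAction G Ω] [FaithfulSMul G Ω]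
    (T : Subgroup G) [T.Normal] (hT : IsSimpleGroup T)
    (hC : Subgroup.centralizer (T : Set G) = ⊥) (g : G)
    (hg : ∀ ω : Ω, MulAction.stabilizer (Subgroup.zpowers g) ω ≠ ⊥) (hRC : RC T) : False := by
  classical
  haveI := hT
  -- a point not fixed by `T`
  obtain ⟨t0, ht0⟩ := exists_ne (1 : T)
  have hex : ∃ ω : Ω, (t0 : G) • ω ≠ ω := by
    by_contra hno
    push Not at hno
    apply ht0
    apply Subtype.ext
    apply eq_of_smul_eq_smul (α := Ω)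
    intro ω
    rw [hno ω]; simp
  obtain ⟨ω0, hω0⟩ := hex
  let φ : G →* MulAut T := MulAut.conjNormal
  have hφ : ∀ x : G, φ x = 1 → x = 1 := by
    intro x hx
    have : x ∈ Subgroup.centralizer (T : Set G) := by
      rw [Subgroup.mem_centralizer_iff]
      intro t ht
      have h1 : (φ x ⟨t, ht⟩ : G) = t := by rw [hx]; rfl
      have h2 : (φ x ⟨t, ht⟩ : G) = x * t * x⁻¹ := MulAut.conjNormal_apply x ⟨t, ht⟩
      rw [h2] at h1
      have : x * t = t * x := by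
        calc x * t = (x * t * x⁻¹) * x := by group
          _ = t * x := by rw [h1]
      exact this.symm
    rw [hC] at this
    exact Subgroup.mem_bot.1 this
  have hinj : Function.Injective φ := (injective_iff_map_eq_one φ).2 hφ
  have hconj : ∀ t : T, φ (t : G) = MulAut.conj t := by
    intro t
    ext x
    simp [φ, MulAut.conjNormal_apply]
  let H : Subgroup (MulAut T) := (MulAction.stabilizer G ω0).map φ
  have hH : ¬ (MulAut.conj : T →* MulAut T).range ≤ H := by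
    intro hle
    have h1 : φ (t0 : G) ∈ H := by
      rw [hconj]; exact hle ⟨t0, rfl⟩
    obtain ⟨x, hx, hxe⟩ := h1
    have := hinj hxe
    subst this
    exact hω0 hx
  obtain ⟨s, hs⟩ := hRC (φ g) H hH
  apply hg ((s : G)⁻¹ • ω0)
  rw [eq_bot_iff]
  rintro ⟨z, hz⟩ hzst
  have hzst' : z • ((s : G)⁻¹ • ω0) = (s : G)⁻¹ • ω0 := hzst
  have h1 : (s : G) * z * (s : G)⁻¹ ∈ MulAction.stabilizer G ω0 := by
    rw [MulAction.mem_stabilizer_iff, mul_smul, mul_smul, hzst', smul_inv_smul]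
  have h2 : MulAut.conj s * φ z * (MulAut.conj s)⁻¹ ∈ H := by
    rw [← hconj, ← map_inv, ← map_mul, ← map_mul]
    exact ⟨_, h1, rfl⟩
  have h3 : φ z ∈ Subgroup.zpowers (φ g) := by
    obtain ⟨k, rfl⟩ := Subgroup.mem_zpowers_iff.1 hz
    exact Subgroup.mem_zpowers_iff.2 ⟨k, by rw [map_zpow]⟩
  have h4 := hφ z (hs _ h3 h2)
  rw [Subgroup.mem_bot]
  exact Subtype.ext h4

/-- the statement for `A5`, `A6`, `A8` (universe polymorphic) -/
def ExcStmt.{u, v} : Prop :=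
  ∀ {G : Type u} [Group G] [Finite G] {Ω : Type v} [Fintype Ω] [MulAction G Ω] [FaithfulSMul G Ω]
    (T : Subgroup G) [T.Normal], Exc T → Subgroup.centralizer (T : Set G) = ⊥ →
    MulAction.IsPreprimitive G Ω → ∀ g : G,
    (∀ ω : Ω, MulAction.stabilizer (Subgroup.zpowers g) ω ≠ ⊥) →
    (Nonempty (T ≃* alternatingGroup (Fin 5)) ∧ Fintype.card Ω = 5) ∨
    (Nonempty (T ≃* alternatingGroup (Fin 6)) ∧ Fintype.card Ω = 6) ∨
    (Nonempty (T ≃* alternatingGroup (Fin 8)) ∧ Fintype.card Ω = 8)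

theorem s3510_of.{u, v}
    (hRC : ∀ (S : Type) [Group S] [Finite S], IsSimpleGroup S → ¬ IsMulCommutative S → Cl S →
      ¬ Exc S → RC S)
    (hE : ExcStmt.{u, v})
    {G : Type u} [Group G] [Finite G] {Ω : Type v} [Fintype Ω] [MulAction G Ω] [FaithfulSMul G Ω]
    (T : Subgroup G) [T.Normal] (hT : IsSimpleGroup T) (hTc : ¬ IsMulCommutative T)
    (hC : Subgroup.centralizer (T : Set G) = ⊥)
    (hcl : (Cfsg.IsPSL T ∨ Cfsg.IsPSp T ∨ Cfsg.IsPSU T ∨ Cfsg.IsPOmegaOdd T ∨ Cfsg.IsPOmegaPlus T ∨ Cfsg.IsPOmegaMinus T))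
    (hprim : MulAction.IsPreprimitive G Ω) (g : G)
    (hg : ∀ ω : Ω, MulAction.stabilizer (Subgroup.zpowers g) ω ≠ ⊥) :
    (Nonempty (T ≃* alternatingGroup (Fin 5)) ∧ Fintype.card Ω = 5) ∨
    (Nonempty (T ≃* alternatingGroup (Fin 6)) ∧ Fintype.card Ω = 6) ∨
    (Nonempty (T ≃* alternatingGroup (Fin 8)) ∧ Fintype.card Ω = 8) := by
  by_cases he : Exc T
  · exact hE T he hC hprim g hg
  · exact (no_rc_of_noreg T hT hC g hg (rc_univ hRC hT hTc hcl he)).elim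

end Cfsg.Agent.H106.RC
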