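import Cfsg.Agent.H106.RC.Red
import Cfsg.Agent.H390.RC.Exc
import Cfsg.Agent.H916.RC.ExcA6

/-!
# S3510: the three exceptional socles (assembly, helper106)
-/

set_option autoImplicit false
open Cfsg

namespace Cfsg.Agent.H106.RC

universe u v

theorem excStmt : ExcStmt.{u, v} := by
  intro G _ _ Ω _ _ _ T _ hT hC hprim g hg
  rcases hT with h5 | h6 | h8
  · obtain ⟨e⟩ := h5
    exact Or.inl ⟨⟨e⟩, Cfsg.Agent.H390.RC.exc_five T e hC hprim g hg⟩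
  · exact Or.inr (Or.inl ⟨h6, Cfsg.Agent.H916.RC.exc_A6 T h6 hC hprim g hg⟩)
  · obtain ⟨e⟩ := h8
    exact Or.inr (Or.inr ⟨⟨e⟩, Cfsg.Agent.H390.RC.exc_eight T e hC hprim g hg⟩)

end Cfsg.Agent.H106.RC
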