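import Cfsg.Agent.H106.RC.Defs

/-!
# The M-rule (C2)
-/

set_option autoImplicit false
open Cfsg

namespace Cfsg.Agent.H106.RC

open MulAction
open scoped commutatorElement

/-- elements acting trivially on a perfect group modulo its centre act trivially -/
theorem central_triv {G : Type*} [Group G] {M : Subgroup G} (hperf : ⁅M, M⁆ = M) {z : G}
    (hz1 : ∀ m ∈ M, z * m * z⁻¹ * m⁻¹ ∈ M)
    (hz : ∀ m ∈ M, ∀ m' ∈ M, Commute (z * m * z⁻¹ * m⁻¹) m') :
    ∀ m ∈ M, z * m = m * z := by
  have key : M ≤ Subgroup.centralizer {z} := by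
    conv_lhs => rw [← hperf]
    rw [Subgroup.commutator_le]
    intro a ha b hb
    rw [Subgroup.mem_centralizer_singleton_iff]
    have hc := hz a ha
    have hd := hz b hb
    have hdM := hz1 b hb
    set c := z * a * z⁻¹ * a⁻¹ with hcdef
    set d := z * b * z⁻¹ * b⁻¹ with hddef
    have h1 : z * a * z⁻¹ = c * a := by rw [hcdef]; group
    have h2 : z * b * z⁻¹ = d * b := by rw [hddef]; group
    have h3 : z * ⁅a, b⁆ * z⁻¹ = ⁅a, b⁆ := by
      have e1 : z * ⁅a, b⁆ * z⁻¹ = ⁅z * a * z⁻¹, z * b * z⁻¹⁆ := by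
        simp only [commutatorElement_def]; group
      rw [e1, h1, h2]
      have hca : c * a = a * c := hc a ha
      have hcb : c * b = b * c := hc b hb
      have hda : d * a = a * d := hd a ha
      have hdb : d * b = b * d := hd b hb
      have hcd : c * d = d * c := hc d hdM
      simp only [commutatorElement_def, mul_inv_rev]
      calc c * a * (d * b) * (a⁻¹ * c⁻¹) * (b⁻¹ * d⁻¹)
          = c * (a * d) * b * a⁻¹ * c⁻¹ * b⁻¹ * d⁻¹ := by group
        _ = (c * d) * a * b * a⁻¹ * (b * c)⁻¹ * d⁻¹ := by rw [← hda]; group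
        _ = (c * d) * a * b * a⁻¹ * (c * b)⁻¹ * d⁻¹ := by rw [hcb]
        _ = (c * d) * (a * b * a⁻¹ * b⁻¹) * (d * c)⁻¹ := by group
        _ = (c * d) * (a * b * a⁻¹ * b⁻¹) * (c * d)⁻¹ := by rw [hcd]
        _ = a * b * a⁻¹ * b⁻¹ := by
          have : Commute (c * d) (a * b * a⁻¹ * b⁻¹) := by
            have ha' : Commute (c * d) a := Commute.mul_left hca hda
            have hb' : Commute (c * d) b := Commute.mul_left hcb hdb
            exact ((ha'.mul_right hb').mul_right ha'.inv_right).mul_right hb'.inv_right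
          rw [this.eq]; group
    calc ⁅a, b⁆ * z = z * ⁅a, b⁆ * z⁻¹ * z := by rw [h3]
      _ = z * ⁅a, b⁆ := by group
  intro m hm
  exact ((Subgroup.mem_centralizer_singleton_iff.1 (key hm))).symm

/-- conjugation on `M` by an element of the normaliser -/
theorem norm_conj {G : Type*} [Group G] {M : Subgroup G} {g : G}
    (hg : g ∈ Subgroup.normalizer (M : Set G)) (m : M) : g * m * g⁻¹ ∈ M :=
  (Subgroup.mem_normalizer_iff.1 hg m).1 m.2

/-- the M-rule for one element -/
theorem mrule_elt {G Ω S : Type*} [Group G] [MulAction G Ω] [Group S] (hS : IsSimpleGroup S)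
    (hSn : ¬ IsMulCommutative S) (M : Subgroup G) (hperf : ⁅M, M⁆ = M) (π : M →* S)
    (hπ : Function.Surjective π) (hker : π.ker ≤ Subgroup.center M) (g : G)
    (hg : g ∈ Subgroup.normalizer (M : Set G)) (α : MulAut S)
    (hα : ∀ m : M, α (π m) = π ⟨g * m * g⁻¹, norm_conj hg m⟩) (hRC : RCe S α) (ω : Ω)
    (hω : ¬ M ≤ stabilizer G ω) :
    ∃ m ∈ M, ∀ z ∈ Subgroup.zpowers g, z • (m • ω) = m • ω →
      (∀ m' ∈ M, z * m' = m' * z) ∧ z • ω = ω := by
  classical
  have hS' := hS
  -- the set of automorphisms induced by elements of `K = M⟨g⟩` fixing `ω`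
  let Ind : G → MulAut S → Prop := fun l β =>
    l ∈ Subgroup.normalizer (M : Set G) ∧ ∀ (m m' : M), (m' : G) = l * m * l⁻¹ → β (π m) = π m'
  have Ind_one : Ind 1 1 := by
    refine ⟨Subgroup.one_mem _, ?_⟩
    intro m m' h
    have : m' = m := Subtype.ext (by rw [h]; group)
    rw [this]; rfl
  have Ind_mul : ∀ {l1 l2 : G} {β1 β2 : MulAut S}, Ind l1 β1 → Ind l2 β2 →
      Ind (l1 * l2) (β1 * β2) := by
    intro l1 l2 β1 β2 h1 h2
    refine ⟨Subgroup.mul_mem _ h1.1 h2.1, ?_⟩
    intro m m' h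
    have e2 := h2.2 m ⟨l2 * m * l2⁻¹, norm_conj h2.1 m⟩ rfl
    have e1 := h1.2 ⟨l2 * m * l2⁻¹, norm_conj h2.1 m⟩ m' (by rw [h]; group)
    rw [MulAut.mul_apply, e2, e1]
  have Ind_inv : ∀ {l : G} {β : MulAut S}, Ind l β → Ind l⁻¹ β⁻¹ := by
    intro l β h
    refine ⟨Subgroup.inv_mem _ h.1, ?_⟩
    intro m m' h'
    have := h.2 m' m (by rw [h']; group)
    rw [← this, MulAut.inv_apply_self]
  have Ind_g : Ind g α := by
    refine ⟨hg, ?_⟩
    intro m m' h
    rw [hα m]
    congr 1
    exact Subtype.ext h.symm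
  have Ind_zpow : ∀ k : ℤ, Ind (g ^ k) (α ^ k) := by
    intro k
    induction k using Int.induction_on with
    | zero => simpa using Ind_one
    | succ n ih => rw [zpow_add_one, zpow_add_one]; exact Ind_mul ih Ind_g
    | pred n ih => rw [zpow_sub_one, zpow_sub_one]; exact Ind_mul ih (Ind_inv Ind_g)
  have Ind_M : ∀ m : M, Ind (m : G) (MulAut.conj (π m)) := by
    intro m
    refine ⟨Subgroup.le_normalizer m.2, ?_⟩
    intro a b h
    have : b = m * a * m⁻¹ := Subtype.ext (by rw [h]; rfl)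
    rw [this, MulAut.conj_apply]; simp
  have Ind_uniq : ∀ {l : G} {β β' : MulAut S}, Ind l β → Ind l β' → β = β' := by
    intro l β β' h h'
    ext s
    obtain ⟨m, rfl⟩ := hπ s
    rw [h.2 m ⟨_, norm_conj h.1 m⟩ rfl, h'.2 m ⟨_, norm_conj h.1 m⟩ rfl]
  -- K
  let K : G → Prop := fun l => ∃ m ∈ M, ∃ z ∈ Subgroup.zpowers g, l = m * z
  have hzN : ∀ z ∈ Subgroup.zpowers g, z ∈ Subgroup.normalizer (M : Set G) := by
    intro z hz
    exact (Subgroup.zpowers_le.2 hg) hz
  have K_mul : ∀ {a b}, K a → K b → K (a * b) := by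
    rintro _ _ ⟨m, hm, z, hz, rfl⟩ ⟨m', hm', z', hz', rfl⟩
    refine ⟨m * (z * m' * z⁻¹), M.mul_mem hm (norm_conj (hzN z hz) ⟨m', hm'⟩), z * z',
      Subgroup.mul_mem _ hz hz', by group⟩
  have K_inv : ∀ {a}, K a → K a⁻¹ := by
    rintro _ ⟨m, hm, z, hz, rfl⟩
    refine ⟨z⁻¹ * m⁻¹ * z⁻¹⁻¹, norm_conj (hzN _ (Subgroup.inv_mem _ hz)) ⟨m⁻¹, M.inv_mem hm⟩, z⁻¹,
      Subgroup.inv_mem _ hz, by group⟩
  let H' : Subgroup (MulAut S) :=
    { carrier := {β | ∃ l, K l ∧ l • ω = ω ∧ Ind l β}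
      one_mem' := ⟨1, ⟨1, M.one_mem, 1, Subgroup.one_mem _, by simp⟩, one_smul _ _, Ind_one⟩
      mul_mem' := by
        rintro a b ⟨l, h1, h2, h3⟩ ⟨l', h1', h2', h3'⟩
        exact ⟨l * l', K_mul h1 h1', by rw [mul_smul, h2', h2], Ind_mul h3 h3'⟩
      inv_mem' := by
        rintro a ⟨l, h1, h2, h3⟩
        exact ⟨l⁻¹, K_inv h1, by rw [inv_smul_eq_iff, h2], Ind_inv h3⟩ }
  -- `H'` does not contain the inner automorphisms
  have hH' : ¬ (MulAut.conj : S →* MulAut S).range ≤ H' := by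
    intro hle
    let R : Subgroup S := (((stabilizer G ω).subgroupOf M)).map π
    have hR : R.Normal := by
      constructor
      rintro _ ⟨a, ha, rfl⟩ s
      obtain ⟨l, hlK, hlω, hl⟩ := hle ⟨s, rfl⟩
      have ha' : (a : G) • ω = ω := ha
      refine ⟨⟨l * a * l⁻¹, norm_conj hl.1 a⟩, ?_, ?_⟩
      · show (l * a * l⁻¹) • ω = ω
        rw [mul_smul, mul_smul]
        have : l⁻¹ • ω = ω := by rw [inv_smul_eq_iff, hlω]
        rw [this, ha', hlω]
      · rw [← hl.2 a ⟨l * a * l⁻¹, norm_conj hl.1 a⟩ rfl]; rfl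
    rcases hS.eq_bot_or_eq_top_of_normal R hR with hb | ht
    · -- then `Inn S` is abelian
      apply hSn
      have hMZ : ∀ a : M, (a : G) • ω = ω → π a = 1 := by
        intro a ha
        have : π a ∈ R := ⟨a, ha, rfl⟩
        rw [hb] at this
        exact Subgroup.mem_bot.1 this
      -- commutators of elements of `L` are in `M`
      have hcomm : ∀ s t : S, MulAut.conj s * MulAut.conj t = MulAut.conj t * MulAut.conj s := by
        intro s t
        obtain ⟨l, ⟨m, hm, z, hz, rfl⟩, hlω, hl⟩ := hle ⟨s, rfl⟩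
        obtain ⟨l', ⟨m', hm', z', hz', rfl⟩, hlω', hl'⟩ := hle ⟨t, rfl⟩
        have hzz : z * z' = z' * z := by
          obtain ⟨i, rfl⟩ := Subgroup.mem_zpowers_iff.1 hz
          obtain ⟨j, rfl⟩ := Subgroup.mem_zpowers_iff.1 hz'
          rw [← zpow_add, ← zpow_add, add_comm]
        -- the commutator c = l l' l⁻¹ l'⁻¹
        have hcM : (m * z) * (m' * z') * (m * z)⁻¹ * (m' * z')⁻¹ ∈ M := by
          have e : (m * z) * (m' * z') * (m * z)⁻¹ * (m' * z')⁻¹
              = m * (z * m' * z⁻¹) * ((z * z') * z⁻¹ * m⁻¹ * ((z * z') * z⁻¹)⁻¹) * m'⁻¹ := by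
            have : z' = z⁻¹ * (z' * z) := by rw [← hzz]; group
            have h' : z * z' * z⁻¹ = z' := by rw [hzz]; group
            rw [h']
            have h'' : z * z' * (m * z)⁻¹ = z' * m⁻¹ := by
              rw [mul_inv_rev, ← mul_assoc, h']
            calc (m * z) * (m' * z') * (m * z)⁻¹ * (m' * z')⁻¹
                = m * (z * m' * z⁻¹) * (z * z' * (m * z)⁻¹) * (m' * z')⁻¹ := by group
              _ = m * (z * m' * z⁻¹) * (z' * m⁻¹) * (m' * z')⁻¹ := by rw [h'']
              _ = m * (z * m' * z⁻¹) * (z' * m⁻¹ * z'⁻¹) * m'⁻¹ := by group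
          rw [e]
          refine M.mul_mem (M.mul_mem (M.mul_mem hm (norm_conj (hzN z hz) ⟨m', hm'⟩)) ?_) (M.inv_mem hm')
          have h3 : (z * z') * z⁻¹ ∈ Subgroup.zpowers g :=
            Subgroup.mul_mem _ (Subgroup.mul_mem _ hz hz') (Subgroup.inv_mem _ hz)
          exact norm_conj (hzN _ h3) ⟨m⁻¹, M.inv_mem hm⟩
        have hcω : ((m * z) * (m' * z') * (m * z)⁻¹ * (m' * z')⁻¹) • ω = ω := by
          rw [mul_smul, mul_smul, mul_smul]
          have i1 : (m * z)⁻¹ • ω = ω := by rw [inv_smul_eq_iff, hlω]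
          have i2 : (m' * z')⁻¹ • ω = ω := by rw [inv_smul_eq_iff, hlω']
          rw [i2, i1, hlω', hlω]
        have h1 := Ind_mul (Ind_mul (Ind_mul hl hl') (Ind_inv hl)) (Ind_inv hl')
        have h2 := Ind_M ⟨_, hcM⟩
        have h3 := Ind_uniq h1 h2
        rw [hMZ ⟨_, hcM⟩ hcω, map_one] at h3
        calc MulAut.conj s * MulAut.conj t
            = (MulAut.conj s * MulAut.conj t * (MulAut.conj s)⁻¹ * (MulAut.conj t)⁻¹) *
              (MulAut.conj t * MulAut.conj s) := by group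
          _ = MulAut.conj t * MulAut.conj s := by rw [h3, one_mul]
      -- so S/Z(S) abelian, S simple nonabelian: contradiction
      have hcent : Subgroup.center S = ⊥ ∨ Subgroup.center S = ⊤ :=
        hS.eq_bot_or_eq_top_of_normal _ inferInstance
      constructor
      constructor
      intro s t
      rcases hcent with hc | hc
      · have h4 : MulAut.conj (s * t * s⁻¹ * t⁻¹) = 1 := by
          rw [map_mul, map_mul, map_mul, map_inv, map_inv, hcomm s t]; group
        have h5 : s * t * s⁻¹ * t⁻¹ ∈ Subgroup.center S := by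
          rw [Subgroup.mem_center_iff]
          intro u
          have := congrArg (fun f : MulAut S => f u) h4
          simp only [MulAut.conj_apply, MulAut.one_apply] at this
          calc u * (s * t * s⁻¹ * t⁻¹) = ((s * t * s⁻¹ * t⁻¹) * u * (s * t * s⁻¹ * t⁻¹)⁻¹) * (s * t * s⁻¹ * t⁻¹) := by rw [this]
            _ = s * t * s⁻¹ * t⁻¹ * u := by group
        rw [hc, Subgroup.mem_bot] at h5
        calc s * t = (s * t * s⁻¹ * t⁻¹) * (t * s) := by group
          _ = t * s := by rw [h5, one_mul]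
      · have : t ∈ Subgroup.center S := by rw [hc]; trivial
        exact Subgroup.mem_center_iff.1 this s
    · -- then `M ≤ stabilizer`
      apply hω
      have hcov : ∀ m ∈ M, ∃ a ∈ M, a • ω = ω ∧ ∀ m' ∈ M, Commute (a⁻¹ * m) m' := by
        intro m hm
        have : π ⟨m, hm⟩ ∈ R := by rw [ht]; trivial
        obtain ⟨a, ha, hae⟩ := this
        refine ⟨a, a.2, ha, ?_⟩
        intro m' hm'
        have h1 : a⁻¹ * ⟨m, hm⟩ ∈ π.ker := by
          rw [MonoidHom.mem_ker, map_mul, map_inv, hae, inv_mul_cancel]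
        have h2 := Subgroup.mem_center_iff.1 (hker h1) ⟨m', hm'⟩
        have h3 := congrArg (Subtype.val) h2
        exact h3.symm
      conv_lhs => rw [← hperf]
      rw [Subgroup.commutator_le]
      intro a ha b hb
      obtain ⟨a', ha', haω, hac⟩ := hcov a ha
      obtain ⟨b', hb', hbω, hbc⟩ := hcov b hb
      have e : ⁅a, b⁆ = ⁅a', b'⁆ := by
        have ea : a = a' * (a'⁻¹ * a) := by group
        have eb : b = b' * (b'⁻¹ * b) := by group
        set c := a'⁻¹ * a with hc
        set d := b'⁻¹ * b with hd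
        have hcM : c ∈ M := M.mul_mem (M.inv_mem ha') ha
        have hdM : d ∈ M := M.mul_mem (M.inv_mem hb') hb
        rw [ea, eb]
        simp only [commutatorElement_def, mul_inv_rev]
        have c1 : Commute c b' := hac b' hb'
        have c2 : Commute c d := hac d hdM
        have c3 : Commute d a' := hbc a' ha'
        have c4 : Commute c a' := hac a' ha'
        have c5 : Commute d b' := hbc b' hb'
        calc a' * c * (b' * d) * (c⁻¹ * a'⁻¹) * (d⁻¹ * b'⁻¹)
            = a' * (c * (b' * d)) * c⁻¹ * a'⁻¹ * d⁻¹ * b'⁻¹ := by group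
          _ = a' * ((b' * d) * c) * c⁻¹ * a'⁻¹ * d⁻¹ * b'⁻¹ := by
              rw [(Commute.mul_right c1 c2).eq]
          _ = a' * b' * (d * a'⁻¹) * d⁻¹ * b'⁻¹ := by group
          _ = a' * b' * (a'⁻¹ * d) * d⁻¹ * b'⁻¹ := by rw [(c3.inv_right).eq]
          _ = a' * b' * a'⁻¹ * b'⁻¹ := by group
      rw [e]
      have ha1 : a' ∈ stabilizer G ω := haω
      have hb1 : b' ∈ stabilizer G ω := hbω
      rw [commutatorElement_def]
      exact Subgroup.mul_mem _ (Subgroup.mul_mem _ (Subgroup.mul_mem _ ha1 hb1)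
        (Subgroup.inv_mem _ ha1)) (Subgroup.inv_mem _ hb1)
  obtain ⟨s, hs⟩ := hRC H' hH'
  obtain ⟨m0, hm0⟩ := hπ s
  refine ⟨(m0 : G)⁻¹, M.inv_mem m0.2, ?_⟩
  intro z hz hzω
  obtain ⟨k, rfl⟩ := Subgroup.mem_zpowers_iff.1 hz
  have hfix : ((m0 : G) * g ^ k * (m0 : G)⁻¹) • ω = ω := by
    rw [mul_smul, mul_smul, hzω, smul_inv_smul]
  have hK : K ((m0 : G) * g ^ k * (m0 : G)⁻¹) := by
    refine K_mul (K_mul ?_ ?_) ?_
    · exact ⟨m0, m0.2, 1, Subgroup.one_mem _, by simp⟩
    · exact ⟨1, M.one_mem, g ^ k, Subgroup.zpow_mem_zpowers g k, by simp⟩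
    · exact ⟨(m0 : G)⁻¹, M.inv_mem m0.2, 1, Subgroup.one_mem _, by simp⟩
  have hI : Ind ((m0 : G) * g ^ k * (m0 : G)⁻¹) (MulAut.conj s * α ^ k * (MulAut.conj s)⁻¹) := by
    have h1 := Ind_mul (Ind_mul (Ind_M m0) (Ind_zpow k)) (Ind_inv (Ind_M m0))
    rwa [hm0] at h1
  have h1 := hs (α ^ k) (Subgroup.zpow_mem_zpowers α k) ⟨_, hK, hfix, hI⟩
  -- hence `g ^ k` centralises `M`
  have htriv : ∀ m' ∈ M, g ^ k * m' = m' * g ^ k := by
    have hIk := Ind_zpow k
    rw [h1] at hIk
    have hval : ∀ m ∈ M, ∃ (h : g ^ k * m * (g ^ k)⁻¹ * m⁻¹ ∈ M),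
        (⟨_, h⟩ : M) ∈ Subgroup.center M := by
      intro m hm
      have hm1 : g ^ k * m * (g ^ k)⁻¹ ∈ M := norm_conj hIk.1 ⟨m, hm⟩
      refine ⟨M.mul_mem hm1 (M.inv_mem hm), hker ?_⟩
      rw [MonoidHom.mem_ker]
      have h2 := hIk.2 ⟨m, hm⟩ ⟨_, hm1⟩ rfl
      have h3 : (⟨g ^ k * m * (g ^ k)⁻¹ * m⁻¹, M.mul_mem hm1 (M.inv_mem hm)⟩ : M)
          = ⟨g ^ k * m * (g ^ k)⁻¹, hm1⟩ * (⟨m, hm⟩ : M)⁻¹ := rfl
      rw [h3, map_mul, map_inv, ← h2]
      simp
    apply central_triv hperf
    · intro m hm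
      exact (hval m hm).1
    · intro m hm m' hm'
      obtain ⟨h, hc⟩ := hval m hm
      have := Subgroup.mem_center_iff.1 hc ⟨m', hm'⟩
      exact (congrArg Subtype.val this).symm
  refine ⟨htriv, ?_⟩
  have h2 := htriv _ (M.inv_mem m0.2)
  rw [← mul_smul, h2, mul_smul] at hzω
  exact smul_left_cancel _ hzω

/-- the automorphism of `S` induced by an element normalising `M` -/
theorem exists_ind {G S : Type*} [Group G] [Group S] (hS : IsSimpleGroup S)
    (hSn : ¬ IsMulCommutative S) (M : Subgroup G) (π : M →* S)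
    (hπ : Function.Surjective π) (hker : π.ker ≤ Subgroup.center M) (g : G)
    (hg : g ∈ Subgroup.normalizer (M : Set G)) :
    ∃ α : MulAut S, ∀ m : M, α (π m) = π ⟨g * m * g⁻¹, norm_conj hg m⟩ := by
  classical
  -- the centre of `S` is trivial
  have hZ : Subgroup.center S = ⊥ := by
    rcases hS.eq_bot_or_eq_top_of_normal (Subgroup.center S) inferInstance with h | h
    · exact h
    · exfalso
      apply hSn
      constructor
      constructor
      intro s t
      have : t ∈ Subgroup.center S := by rw [h]; trivial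
      exact Subgroup.mem_center_iff.1 this s
  have hker' : ∀ m : M, π m = 1 ↔ m ∈ Subgroup.center M := by
    intro m
    refine ⟨fun h => hker (MonoidHom.mem_ker.2 h), fun h => ?_⟩
    have : π m ∈ Subgroup.center S := by
      rw [Subgroup.mem_center_iff]
      intro s
      obtain ⟨t, rfl⟩ := hπ s
      rw [← map_mul, ← map_mul, Subgroup.mem_center_iff.1 h t]
    rw [hZ] at this
    exact Subgroup.mem_bot.1 this
  -- the conjugation automorphism of `M`
  let c : M ≃* M :=
    { toFun := fun m => ⟨g * m * g⁻¹, norm_conj hg m⟩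
      invFun := fun m => ⟨g⁻¹ * m * g, by
        have := norm_conj (Subgroup.inv_mem _ hg) m
        rwa [inv_inv] at this⟩
      left_inv := fun m => Subtype.ext (by
        show g⁻¹ * (g * m * g⁻¹) * g = m
        group)
      right_inv := fun m => Subtype.ext (by
        show g * (g⁻¹ * m * g) * g⁻¹ = m
        group)
      map_mul' := fun a b => Subtype.ext (by
        show g * (a * b : M) * g⁻¹ = (g * a * g⁻¹) * (g * b * g⁻¹)
        push_cast
        group) }
  have hcen : ∀ m : M, m ∈ Subgroup.center M ↔ c m ∈ Subgroup.center M := by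
    intro m
    constructor
    · intro h
      rw [Subgroup.mem_center_iff] at h ⊢
      intro t
      have := h (c.symm t)
      have h2 := congrArg c this
      rw [map_mul, map_mul, MulEquiv.apply_symm_apply] at h2
      exact h2
    · intro h
      rw [Subgroup.mem_center_iff] at h ⊢
      intro t
      apply c.injective
      rw [map_mul, map_mul]
      exact h (c t)
  have hwd : ∀ a b : M, π a = π b ↔ π (c a) = π (c b) := by
    intro a b
    rw [← mul_inv_eq_one (a := π a), ← mul_inv_eq_one (a := π (c a)), ← map_inv, ← map_inv,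
      ← map_mul, ← map_mul, ← map_inv, ← map_mul, hker', hker']
    exact hcen _
  let f : S → S := fun s => π (c (hπ s).choose)
  have hf : ∀ m : M, f (π m) = π (c m) := by
    intro m
    exact (hwd _ _).1 (hπ (π m)).choose_spec
  let F : S →* S :=
    { toFun := f
      map_one' := by
        have := hf 1
        simpa using this
      map_mul' := by
        intro s t
        obtain ⟨a, rfl⟩ := hπ s
        obtain ⟨b, rfl⟩ := hπ t
        rw [← map_mul, hf, hf, hf, map_mul, map_mul] }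
  have hFbij : Function.Bijective F := by
    constructor
    · intro s t h
      obtain ⟨a, rfl⟩ := hπ s
      obtain ⟨b, rfl⟩ := hπ t
      have h' : f (π a) = f (π b) := h
      rw [hf, hf] at h'
      exact (hwd a b).2 h'
    · intro s
      obtain ⟨a, rfl⟩ := hπ s
      refine ⟨π (c.symm a), ?_⟩
      show f (π (c.symm a)) = π a
      rw [hf, MulEquiv.apply_symm_apply]
  exact ⟨MulEquiv.ofBijective F hFbij, fun m => hf m⟩

/-- commuting elements of distinct prime orders lie in one cyclic group -/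
theorem exists_gen {G ι : Type*} [Group G] [Finite ι] (x : ι → G) (r : ι → ℕ)
    (hr : ∀ i, (r i).Prime) (hinj : Function.Injective r) (hx : ∀ i, x i ^ r i = 1)
    (hc : ∀ i j, x i * x j = x j * x i) :
    ∃ g ∈ Subgroup.closure (Set.range x), ∀ i, x i ∈ Subgroup.zpowers g := by
  classical
  cases nonempty_fintype ι
  have key : ∀ s : Finset ι, ∃ g ∈ Subgroup.closure (Set.range x), (∀ i ∈ s, x i ∈ Subgroup.zpowers g) ∧
      orderOf g ∣ ∏ i ∈ s, r i ∧ ∀ j, Commute g (x j) := by
    intro s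
    induction s using Finset.induction_on with
    | empty => exact ⟨1, Subgroup.one_mem _, by simp, by simp, fun j => Commute.one_left _⟩
    | insert a s ha ih =>
      obtain ⟨g, hgc, hg1, hg2, hg3⟩ := ih
      have hcop : Nat.Coprime (orderOf g) (orderOf (x a)) := by
        have h1 : orderOf (x a) ∣ r a := orderOf_dvd_of_pow_eq_one (hx a)
        refine Nat.Coprime.coprime_dvd_left hg2 (Nat.Coprime.coprime_dvd_right h1 ?_)
        refine Nat.Coprime.prod_left fun i hi => ?_
        rw [Nat.coprime_primes (hr i) (hr a)]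
        intro h
        exact ha (hinj h ▸ hi)
      have hcomm : Commute g (x a) := hg3 a
      have hmem : g ∈ Subgroup.zpowers (g * x a) ∧ x a ∈ Subgroup.zpowers (g * x a) := by
        obtain ⟨k, hk⟩ := Nat.chineseRemainder hcop 1 0
        obtain ⟨l, hl⟩ := Nat.chineseRemainder hcop 0 1
        constructor
        · refine Subgroup.mem_zpowers_iff.2 ⟨(k : ℤ), ?_⟩
          rw [zpow_natCast, hcomm.mul_pow]
          have h1 : g ^ k = g := by
            conv_rhs => rw [← pow_one g]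
            exact pow_eq_pow_iff_modEq.2 hk.1
          have h2 : x a ^ k = 1 := by
            rw [← pow_zero (x a)]
            exact pow_eq_pow_iff_modEq.2 hk.2
          rw [h1, h2, mul_one]
        · refine Subgroup.mem_zpowers_iff.2 ⟨(l : ℤ), ?_⟩
          rw [zpow_natCast, hcomm.mul_pow]
          have h1 : g ^ l = 1 := by
            rw [← pow_zero g]
            exact pow_eq_pow_iff_modEq.2 hl.1
          have h2 : x a ^ l = x a := by
            conv_rhs => rw [← pow_one (x a)]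
            exact pow_eq_pow_iff_modEq.2 hl.2
          rw [h1, h2, one_mul]
      refine ⟨g * x a, Subgroup.mul_mem _ hgc (Subgroup.subset_closure ⟨a, rfl⟩), ?_, ?_, ?_⟩
      · intro i hi
        rcases Finset.mem_insert.1 hi with rfl | hi
        · exact hmem.2
        · exact (Subgroup.zpowers_le.2 hmem.1) (hg1 i hi)
      · rw [Finset.prod_insert ha, hcomm.orderOf_mul_eq_mul_orderOf_of_coprime hcop, mul_comm]
        exact Nat.mul_dvd_mul (orderOf_dvd_of_pow_eq_one (hx a)) hg2
      · intro j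
        exact Commute.mul_left (hg3 j) (hc a j)
  obtain ⟨g, h1, h2, -, -⟩ := key Finset.univ
  exact ⟨g, h1, fun i => h2 i (Finset.mem_univ i)⟩

/-- the M-rule for a commuting family of elements of distinct prime orders -/
theorem mrule {G Ω S ι : Type*} [Group G] [MulAction G Ω] [Group S] [Finite ι]
    (hS : IsSimpleGroup S) (hSn : ¬ IsMulCommutative S) (x : ι → G) (r : ι → ℕ)
    (hr : ∀ i, (r i).Prime) (hinj : Function.Injective r) (hx : ∀ i, x i ^ r i = 1)
    (hc : ∀ i j, x i * x j = x j * x i)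
    (M : Subgroup G) (hperf : ⁅M, M⁆ = M) (π : M →* S)
    (hπ : Function.Surjective π) (hker : π.ker ≤ Subgroup.center M)
    (hnorm : ∀ i, x i ∈ Subgroup.normalizer (M : Set G))
    (hRC : ∀ g ∈ Subgroup.closure (Set.range x), ∀ α : MulAut S,
      (∀ (m m' : M), (m' : G) = g * m * g⁻¹ → α (π m) = π m') → RCe S α)
    (ω : Ω) (hcov : ∀ m ∈ M, ∃ i, x i • m • ω = m • ω) :
    M ≤ stabilizer G ω ∨ ∃ j, (∀ m ∈ M, x j * m = m * x j) ∧ x j • ω = ω := by
  by_cases hω : M ≤ stabilizer G ω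
  · exact Or.inl hω
  right
  obtain ⟨g, hgc, hg⟩ := exists_gen x r hr hinj hx hc
  have hgN : g ∈ Subgroup.normalizer (M : Set G) := by
    have : Subgroup.closure (Set.range x) ≤ Subgroup.normalizer (M : Set G) := by
      rw [Subgroup.closure_le]
      rintro _ ⟨i, rfl⟩
      exact hnorm i
    exact this hgc
  obtain ⟨α, hα⟩ := exists_ind hS hSn M π hπ hker g hgN
  obtain ⟨m, hm, hmz⟩ := mrule_elt hS hSn M hperf π hπ hker g hgN α hα
    (hRC g hgc α (fun m m' h => by
      rw [hα m]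
      congr 1
      exact Subtype.ext h.symm)) ω hω
  obtain ⟨i, hi⟩ := hcov m hm
  exact ⟨i, hmz (x i) (hg i) hi⟩

/-- the M-rule when `S` has property `RC` -/
theorem mrule_RC {G Ω S ι : Type*} [Group G] [MulAction G Ω] [Group S] [Finite ι]
    (hS : IsSimpleGroup S) (hSn : ¬ IsMulCommutative S) (x : ι → G) (r : ι → ℕ)
    (hr : ∀ i, (r i).Prime) (hinj : Function.Injective r) (hx : ∀ i, x i ^ r i = 1)
    (hc : ∀ i j, x i * x j = x j * x i)
    (M : Subgroup G) (hperf : ⁅M, M⁆ = M) (π : M →* S)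
    (hπ : Function.Surjective π) (hker : π.ker ≤ Subgroup.center M)
    (hnorm : ∀ i, x i ∈ Subgroup.normalizer (M : Set G))
    (hRC : RC S)
    (ω : Ω) (hcov : ∀ m ∈ M, ∃ i, x i • m • ω = m • ω) :
    M ≤ stabilizer G ω ∨ ∃ j, (∀ m ∈ M, x j * m = m * x j) ∧ x j • ω = ω :=
  mrule hS hSn x r hr hinj hx hc M hperf π hπ hker hnorm (fun _ _ α _ => hRC α) ω hcov

/-- the M-rule when only one of the elements acts nontrivially on `M` (no hypothesis on `S`) -/
theorem mrule_one {G Ω S ι : Type*} [Group G] [MulAction G Ω] [Group S] [Finite ι]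
    (hS : IsSimpleGroup S) (hSn : ¬ IsMulCommutative S) (x : ι → G) (r : ι → ℕ)
    (hr : ∀ i, (r i).Prime) (hinj : Function.Injective r) (hx : ∀ i, x i ^ r i = 1)
    (hc : ∀ i j, x i * x j = x j * x i)
    (M : Subgroup G) (hperf : ⁅M, M⁆ = M) (π : M →* S)
    (hπ : Function.Surjective π) (hker : π.ker ≤ Subgroup.center M)
    (i₀ : ι) (hnorm : x i₀ ∈ Subgroup.normalizer (M : Set G))
    (hcen : ∀ i, i ≠ i₀ → ∀ m ∈ M, x i * m = m * x i)
    (ω : Ω) (hcov : ∀ m ∈ M, ∃ i, x i • m • ω = m • ω) :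
    M ≤ stabilizer G ω ∨ ∃ j, (∀ m ∈ M, x j * m = m * x j) ∧ x j • ω = ω := by
  have hnorm' : ∀ i, x i ∈ Subgroup.normalizer (M : Set G) := by
    intro i
    by_cases hi : i = i₀
    · rw [hi]; exact hnorm
    · rw [Subgroup.mem_normalizer_iff]
      have h1 : ∀ m ∈ M, x i * m * (x i)⁻¹ = m := by
        intro m hm
        rw [hcen i hi m hm, mul_inv_cancel_right]
      intro m
      constructor
      · intro hm
        have := h1 m hm
        show x i * m * (x i)⁻¹ ∈ M
        rwa [this]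
      · intro hm
        have h2 := hcen i hi _ hm
        have h3 : m = x i * m * (x i)⁻¹ := by
          have : x i * (x i * m * (x i)⁻¹) = x i * m := by rw [h2]; group
          exact (mul_left_cancel this).symm
        rw [h3]; exact hm
  refine mrule hS hSn x r hr hinj hx hc M hperf π hπ hker hnorm' ?_ ω hcov
  intro g hg α hα
  -- `g ^ r i₀` centralises `M`
  have hcl : ∀ g ∈ Subgroup.closure (Set.range x),
      ∃ k : ℤ, ∀ m ∈ M, g * m * g⁻¹ = (x i₀ ^ k) * m * (x i₀ ^ k)⁻¹ := by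
    intro g hg
    have hxz : ∀ k : ℤ, ∀ m ∈ M, (x i₀ ^ k) * m * (x i₀ ^ k)⁻¹ ∈ M := fun k m hm =>
      norm_conj (Subgroup.zpow_mem _ hnorm k) ⟨m, hm⟩
    induction hg using Subgroup.closure_induction with
    | mem y hy =>
      obtain ⟨i, rfl⟩ := hy
      by_cases hi : i = i₀
      · exact ⟨1, fun m _ => by rw [zpow_one, hi]⟩
      · exact ⟨0, fun m hm => by
          rw [hcen i hi m hm]; simp⟩
    | one => exact ⟨0, fun m _ => by simp⟩
    | mul a b _ _ iha ihb =>
      obtain ⟨k, hk⟩ := iha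
      obtain ⟨l, hl⟩ := ihb
      refine ⟨k + l, fun m hm => ?_⟩
      calc a * b * m * (a * b)⁻¹ = a * (b * m * b⁻¹) * a⁻¹ := by group
        _ = a * ((x i₀ ^ l) * m * (x i₀ ^ l)⁻¹) * a⁻¹ := by rw [hl m hm]
        _ = (x i₀ ^ k) * ((x i₀ ^ l) * m * (x i₀ ^ l)⁻¹) * (x i₀ ^ k)⁻¹ := by
            rw [hk _ (hxz l m hm)]
        _ = (x i₀ ^ (k + l)) * m * (x i₀ ^ (k + l))⁻¹ := by rw [zpow_add]; group
    | inv a _ iha =>
      obtain ⟨k, hk⟩ := iha
      refine ⟨-k, fun m hm => ?_⟩
      have h1 := hk _ (hxz (-k) m hm)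
      have h2 : (x i₀ ^ k) * ((x i₀ ^ (-k)) * m * (x i₀ ^ (-k))⁻¹) * (x i₀ ^ k)⁻¹ = m := by
        rw [zpow_neg]; group
      rw [h2] at h1
      calc a⁻¹ * m * a⁻¹⁻¹ = a⁻¹ * (a * ((x i₀ ^ (-k)) * m * (x i₀ ^ (-k))⁻¹) * a⁻¹) * a⁻¹⁻¹ := by
            rw [h1]
        _ = _ := by group
  have hord : orderOf α ∣ r i₀ := by
    obtain ⟨k, hk⟩ := hcl g hg
    apply orderOf_dvd_of_pow_eq_one
    -- α ^ n (π m) = π (x^(k n) m x^(-k n))
    have hpow : ∀ n : ℕ, ∀ m m' : M, (m' : G) = (x i₀ ^ (k * n)) * m * (x i₀ ^ (k * n))⁻¹ →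
        (α ^ n) (π m) = π m' := by
      intro n
      induction n with
      | zero =>
        intro m m' h
        have : m' = m := Subtype.ext (by rw [h]; simp)
        rw [this]; rfl
      | succ n ih =>
        intro m m' h
        rw [pow_succ', MulAut.mul_apply]
        have h0 : (x i₀ ^ (k * n)) * (m : G) * (x i₀ ^ (k * n))⁻¹ ∈ M :=
          norm_conj (Subgroup.zpow_mem _ hnorm _) m
        rw [ih m ⟨_, h0⟩ rfl]
        apply hα
        rw [hk _ h0, h]
        have : (k * ((n + 1 : ℕ) : ℤ)) = k + k * n := by push_cast; ring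
        rw [this, zpow_add]
        group
    ext s
    obtain ⟨m, rfl⟩ := hπ s
    rw [hpow (r i₀) m m]
    · rfl
    · have : x i₀ ^ (k * (r i₀ : ℤ)) = 1 := by
        rw [mul_comm, zpow_mul, zpow_natCast, hx i₀, one_zpow]
      rw [this]; simp
  rcases (Nat.dvd_prime (hr i₀)).1 hord with h | h
  · exact rce_of_prime_pow hS α (hr i₀) (k := 0) (by rw [h, pow_zero])
  · exact rce_of_prime_pow hS α (hr i₀) (k := 1) (by rw [h, pow_one])

end Cfsg.Agent.H106.RC
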