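import Cfsg.Agent.H106.RC.Red
import Cfsg.Agent.H106.RC.Exc
import Cfsg.Agent.H384.RC.RowPSL
import Cfsg.Agent.H67.RC.RowD
import Cfsg.Agent.H93.RC.Odd

/-!
# S3510: the assembly of the rows (helper106)
-/

set_option autoImplicit false
open Cfsg

namespace Cfsg.Agent.H106.RC

/-- S3510 from the three even orthogonal / unitary rows -/
theorem fin_of.{u, v}
    (h3 : Row (fun S _ => IsPSU S)) (h5 : Row (fun S _ => IsPOmegaPlus S))
    (h6 : Row (fun S _ => IsPOmegaMinus S))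
    {G : Type u} [Group G] [Finite G] {Ω : Type v} [Fintype Ω] [MulAction G Ω] [FaithfulSMul G Ω]
    (T : Subgroup G) [T.Normal] (hT : IsSimpleGroup T) (hTc : ¬ IsMulCommutative T)
    (hC : Subgroup.centralizer (T : Set G) = ⊥)
    (hcl : (Cfsg.IsPSL T ∨ Cfsg.IsPSp T ∨ Cfsg.IsPSU T ∨ Cfsg.IsPOmegaOdd T ∨ Cfsg.IsPOmegaPlus T ∨ Cfsg.IsPOmegaMinus T))
    (hprim : MulAction.IsPreprimitive G Ω) (g : G)
    (hg : ∀ ω : Ω, MulAction.stabilizer (Subgroup.zpowers g) ω ≠ ⊥) :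
    (Nonempty (T ≃* alternatingGroup (Fin 5)) ∧ Fintype.card Ω = 5) ∨
    (Nonempty (T ≃* alternatingGroup (Fin 6)) ∧ Fintype.card Ω = 6) ∨
    (Nonempty (T ≃* alternatingGroup (Fin 8)) ∧ Fintype.card Ω = 8) :=
  s3510_of (rc_of_rows H384.RC.row_psl_all H67.RC.row_psp h3 H93.RC.row_odd h5 h6) excStmt T hT hTc hC hcl
    hprim g hg

end Cfsg.Agent.H106.RC
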