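import Cfsg.Agent.H297.RC.LR

/-!
# S3510, orthogonal groups: two rules with the long root group of a totally singular plane (helper106)

* `lr_mem_or`, `box_LR1` : `t ≠ 1` in the long root group `X_L`, `x` any element preserving `L`, not in `X_L`: `{t, x}`
  is no cover;
* `box_LR2` : `t, t' ≠ 1` in the same `X_L` and commuting `p'`-elements preserving `L` : no cover.
-/

set_option autoImplicit false
open Cfsg

namespace Cfsg.Agent.H106.RC.LrTwo

open QuadraticMap MulAction
open Cfsg.Agent.LieClassical.OrthCore Cfsg.Agent.LieClassical.OrthTrans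
open Cfsg.Agent.LieClassical.OrthSimple Cfsg.Agent.ClassicalGeometry.OrthSemi
open Cfsg.Agent.ClassicalGeometry.OrthAut1 Cfsg.Agent.H106.RC Cfsg.Agent.H93.RC Cfsg.Agent.H297.RC
open Cfsg.Agent.AutOrth.SemiSim (sg sg_mul sg_congr sg_zero ext_E sg_apply)

section main

variable {F V : Type*} [Field F] [Finite F] [AddCommGroup V] [Module F V] [FiniteDimensional F V]
  {Q : QuadraticForm F V} {G : Type*} [Group G] {ρ : ↥(E Q) →* G}

/-- the main step for elements of any order: the root element is in the commutator group, or the lift is, up to a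
scalar, in the long root group -/
theorem lr_mem_or (hG : Good Q) {x : G} {M : Gam Q} (hl : Lf ρ x M) {u w : V} (hu : Q u = 0) (hw : Q w = 0)
    (huw : polar Q u w = 0) (hu0 : u ≠ 0) (hind : ∀ a : F, w ≠ a • u)
    (hL : ∀ v ∈ Submodule.span F {u, w}, M.1 v ∈ Submodule.span F {u, w}) :
    ρ (sg Q u w hu huw) ∈ H380.RC.cmm ((U Q (Submodule.span F {u, w})).map ρ) x ∨
      ∃ a d : F, d ≠ 0 ∧ ∀ v, M.1 v = d • (ss Q u (a • w) : V ≃ₗ[F] V) v := by
  by_cases hgoal : ρ (sg Q u w hu huw) ∈ H380.RC.cmm ((U Q (Submodule.span F {u, w})).map ρ) x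
  · exact Or.inl hgoal
  refine Or.inr ?_
  obtain ⟨σ, c, hS⟩ := M.2
  set L := Submodule.span F {u, w} with hLdef
  have hT : TS Q L := ts_pair hu hw huw
  have huL : u ∈ L := Submodule.subset_span (by simp)
  have hwL : w ∈ L := Submodule.subset_span (by simp)
  rw [← ss_eq hu huw] at hgoal
  -- the commutator group
  have k1 : ∀ g ∈ U Q L, ρ (g * (conjE Q M g)⁻¹) ∈ H380.RC.cmm ((U Q L).map ρ) x := by
    intro g hg
    have h1 := H380.RC.mem_cmm (U := (U Q L).map ρ) (x := x) (u := ρ g) ⟨g, hg, rfl⟩
    have h2 := hl g⁻¹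
    have h3 : ρ g * x * (ρ g)⁻¹ * x⁻¹ = ρ (g * (conjE Q M g)⁻¹) := by
      rw [map_mul, ← map_inv (conjE Q M), ← h2, map_inv]
      group
    rwa [h3] at h1
  have k2 : ∀ v ∈ U Q L, ∀ z : ↥(E Q), ρ z ∈ H380.RC.cmm ((U Q L).map ρ) x →
      ρ (z⁻¹ * (v * z * v⁻¹)) ∈ H380.RC.cmm ((U Q L).map ρ) x := by
    intro v hv z hz
    have h1 := H380.RC.cmm_conj (x := x) (v := ρ v) (z := ρ z) (U := (U Q L).map ρ) ⟨v, hv, rfl⟩ hz
    have h2 := mul_mem (inv_mem hz) h1
    rwa [← map_inv, ← map_inv, ← map_mul, ← map_mul, ← map_mul] at h2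
  have hperpM : ∀ b, (∀ v ∈ L, polar Q v b = 0) → ∀ v ∈ L, polar Q v (M.1 b) = 0 := by
    intro b hb v hv
    have h1 := hS.polar (M.1⁻¹ v) b
    rw [Cfsg.Agent.ClassicalGeometry.OrthSemi.apply_inv, hb _ (inv_mem_of hL v hv)] at h1
    rw [h1, map_zero, mul_zero]
  have hperp : ∀ {b : V}, polar Q u b = 0 → polar Q w b = 0 → ∀ v ∈ L, polar Q v b = 0 := fun h1 h2 =>
    perp_pair.2 ⟨h1, h2⟩
  have hMnot : ∀ b, b ∉ L → M.1 b ∉ L := by
    intro b hb h
    apply hb
    have := inv_mem_of hL _ h
    rwa [Cfsg.Agent.ClassicalGeometry.OrthSemi.inv_apply] at this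
  by_cases hline : ∀ l ∈ L, ∃ a : F, M.1 l = a • l
  · -- all the lines are fixed
    obtain ⟨a, ha⟩ := hline u huL
    obtain ⟨b, hb⟩ := hline w hwL
    obtain ⟨d, hd⟩ := hline (u + w) (add_mem huL hwL)
    have hind2 : ∀ s t : F, s • u = t • w → s = 0 ∧ t = 0 := by
      intro s t h
      have ht : t = 0 := by
        by_contra ht
        exact hind (t⁻¹ * s) (by rw [mul_smul, h, smul_smul, inv_mul_cancel₀ ht, one_smul])
      rw [ht, zero_smul] at h
      exact ⟨(smul_eq_zero.1 h).resolve_right hu0, ht⟩
    have hab : a = d ∧ b = d := by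
      rw [hS.add, ha, hb, smul_add] at hd
      have h1 : (a - d) • u = (d - b) • w := by
        rw [sub_smul, sub_smul, sub_eq_sub_iff_add_eq_add]
        rw [hd, add_comm]
      obtain ⟨h2, h3⟩ := hind2 _ _ h1
      exact ⟨sub_eq_zero.1 h2, (sub_eq_zero.1 h3).symm⟩
    have hba : b = a := hab.2.trans hab.1.symm
    rw [hba] at hb
    have ha0 : a ≠ 0 := by
      intro h
      rw [h, zero_smul] at ha
      exact hu0 (M.1.injective (ha.trans hS.map_zero.symm))
    -- linear
    have hσ : ∀ t : F, σ t = t := by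
      intro t
      obtain ⟨d, hd⟩ := hline (t • u + w) (add_mem (L.smul_mem _ huL) hwL)
      rw [hS.add, hS.smul, ha, hb, smul_add, smul_smul, smul_smul] at hd
      have h1 : (σ t * a - d * t) • u = (d - a) • w := by
        rw [sub_smul, sub_smul, sub_eq_sub_iff_add_eq_add, hd, add_comm]
      obtain ⟨h2, h3⟩ := hind2 _ _ h1
      have h4 : d = a := sub_eq_zero.1 h3
      rw [h4] at h2
      have h5 : (σ t - t) * a = 0 := by linear_combination h2
      exact sub_eq_zero.1 ((mul_eq_zero.1 h5).resolve_right ha0)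
    have hML : ∀ l ∈ L, M.1 l = a • l := by
      intro l hl
      obtain ⟨s, t, rfl⟩ := Submodule.mem_span_pair.1 hl
      rw [hS.add, hS.smul, hS.smul, ha, hb, hσ, hσ, smul_add, smul_comm a s, smul_comm a t]
    by_cases hex : ∃ b, (∀ v ∈ L, polar Q v b = 0) ∧ b - (a * c⁻¹) • M.1 b ∉ L
    · obtain ⟨b, hbp, hbn⟩ := hex
      set w1 := b - (a * c⁻¹) • M.1 b with hw1
      have hw1p : ∀ v ∈ L, polar Q v w1 = 0 := by
        intro v hv
        rw [hw1, polar_sub_right, hbp v hv, polar_smul_right, hperpM b hbp v hv]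
        simp
      -- the element `ss u w1`
      have hz : ρ (ss Q u w1) ∈ H380.RC.cmm ((U Q L).map ρ) x := by
        have h1 := k1 _ (ss_mem hT huL hbp)
        rw [conjE_ss hS hu (hbp u huL), ha] at h1
        have h2 : ss Q (a • u) (c⁻¹ • M.1 b) = ss Q u ((a * c⁻¹) • M.1 b) := by
          have e1 : polar Q u (M.1 b) = 0 := hperpM b hbp u huL
          have e2 : Q (a • u) = 0 := by rw [QuadraticMap.map_smul, hu, smul_zero]
          have e3 : polar Q (a • u) (c⁻¹ • M.1 b) = 0 := by
            rw [polar_smul_left, polar_smul_right, e1]; simp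
          have e4 : polar Q u (a • c⁻¹ • M.1 b) = 0 := by
            rw [polar_smul_right, polar_smul_right, e1]; simp
          rw [ss_eq e2 e3, mul_smul, ss_eq hu e4]
          exact AutOrth.SemiSim.sg_smul a hu e2 e3 e4
        have e5 : polar Q u ((a * c⁻¹) • M.1 b) = 0 := by
          rw [polar_smul_right, hperpM b hbp u huL, smul_zero]
        rw [h2, ← ss_neg hu e5, ← ss_add hu (hbp u huL) (by rw [polar_neg_right, e5, neg_zero]), ← sub_eq_add_neg] at h1
        exact h1
      obtain ⟨b2, h1, h2, h3⟩ := exists_b hG.nondeg hu0 hind hbn (-1)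
      have hb2 := hperp h1 h2
      have h4 := k2 _ (ss_mem hT hwL hb2) _ hz
      rw [ss_cj hT hwL huL hb2 hw1p, inv_mul_cancel_left, polar_comm Q b2 w1, h3, neg_neg, one_smul] at h4
      exact absurd h4 hgoal
    · -- then `M` is a scalar
      push Not at hex
      -- `c = a ^ 2`
      obtain ⟨b, hb1, hb2⟩ := exists_out (Q := Q) hG.dim u w
      obtain ⟨b', h1, h2, h3⟩ := exists_b hG.nondeg hu0 hind hb2 1
      have hbp := hperp hb1.1 hb1.2
      have hbp' := hperp h1 h2
      have hca : c = a ^ 2 := by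
        have e1 := hex b hbp
        have e2 := hex b' hbp'
        have e3 := hS.polar b b'
        rw [h3, map_one, mul_one] at e3
        -- `b = κ M b + l`
        set κ := a * c⁻¹ with hκ
        have e4 : polar Q b b' = κ ^ 2 * c := by
          have f1 : b = κ • M.1 b + (b - κ • M.1 b) := by abel
          have f2 : b' = κ • M.1 b' + (b' - κ • M.1 b') := by abel
          have f3 : polar Q (b - κ • M.1 b) (M.1 b') = 0 := hperpM b' hbp' _ e1
          have f4 : polar Q (M.1 b) (b' - κ • M.1 b') = 0 := by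
            rw [polar_comm]; exact hperpM b hbp _ e2
          have f5 : polar Q (b - κ • M.1 b) (b' - κ • M.1 b') = 0 := hT.polar e1 e2
          conv_lhs => rw [f1, f2]
          rw [polar_add_left, polar_add_right, polar_add_right, f5, polar_smul_left, polar_smul_left,
            polar_smul_right, polar_smul_right, f3, f4, e3]
          simp only [smul_eq_mul]
          ring
        rw [h3, hκ] at e4
        have hc0 := hS.ne
        field_simp at e4
        linear_combination e4
      -- the nilpotent map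
      have hlin : ∀ (t : F) (v : V), M.1 (t • v) = t • M.1 v := fun t v => by rw [hS.smul, hσ]
      let T : Module.End F V :=
        { toFun := fun v => a⁻¹ • M.1 v
          map_add' := fun v w => by rw [hS.add, smul_add]
          map_smul' := fun t v => by rw [hlin, smul_comm]; rfl }
      have hTa : ∀ v, T v = a⁻¹ • M.1 v := fun _ => rfl
      have t1 : ∀ v ∈ L, (T - 1) v = 0 := by
        intro v hv
        show T v - v = 0
        rw [hTa, hML v hv, smul_smul, inv_mul_cancel₀ ha0, one_smul, sub_self]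
      have hκa : a * c⁻¹ = a⁻¹ := by rw [hca]; field_simp
      have t2 : ∀ v, (∀ l ∈ L, polar Q l v = 0) → (T - 1) v ∈ L := by
        intro v hv
        show T v - v ∈ L
        have := hex v hv
        rw [hκa] at this
        rw [hTa, ← neg_sub]
        exact L.neg_mem this
      have t3 : ∀ v, ∀ l ∈ L, polar Q l ((T - 1) v) = 0 := by
        intro v l hl
        show polar Q l (T v - v) = 0
        rw [polar_sub_right, hTa, polar_smul_right]
        have e1 := hS.polar l v
        rw [hML l hl, polar_smul_left, hσ, hca] at e1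
        have e2 : polar Q l (M.1 v) = a * polar Q l v := by
          have : a * (polar Q l (M.1 v) - a * polar Q l v) = 0 := by
            simp only [smul_eq_mul] at e1
            linear_combination e1
          exact sub_eq_zero.1 ((mul_eq_zero.1 this).resolve_left ha0)
        rw [e2, smul_eq_mul, ← mul_assoc, inv_mul_cancel₀ ha0, one_mul, sub_self]
      -- the isometry `T`
      have hTlin : ∀ v w : V, polar Q (T v) (T w) = polar Q v w := by
        intro v w
        rw [hTa, hTa, polar_smul_left, polar_smul_right]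
        have e1 := hS.polar v w
        rw [hσ, hca] at e1
        rw [e1]
        simp only [smul_eq_mul]
        field_simp
      have hTQ : ∀ v : V, Q (T v) = Q v := by
        intro v
        rw [hTa, QuadraticMap.map_smul]
        have e1 := hS.form v
        rw [hσ, hca] at e1
        rw [e1]
        simp only [smul_eq_mul]
        field_simp
      by_cases hfix : ∀ b, (∀ l ∈ L, polar Q l b = 0) → T b = b
      · -- `T` in the long root group
        obtain ⟨w', g1, g2⟩ := exists_sep hG.nondeg hind
        obtain ⟨u', g3, g4⟩ := exists_sep hG.nondeg (ind_symm hu0 hind)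
        have hd : ∀ v', T v' - v' ∈ L := by
          intro v'
          apply mem_of_perp hG.nondeg hu0 hind
          intro b hb1 hb2
          have e1 : T b = b := hfix b (perp_pair.2 ⟨hb1, hb2⟩)
          have e2 := hTlin v' b
          rw [e1] at e2
          rw [polar_sub_left, e2, sub_self]
        obtain ⟨α, β, hd1⟩ := Submodule.mem_span_pair.1 (hd u')
        obtain ⟨γ, δ, hd2⟩ := Submodule.mem_span_pair.1 (hd w')
        have k3 : T u' = u' + (α • u + β • w) := by rw [hd1]; abel
        have k4 : T w' = w' + (γ • u + δ • w) := by rw [hd2]; abel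
        have hQL : ∀ s t : F, Q (s • u + t • w) = 0 := fun s t =>
          hT _ (add_mem (L.smul_mem _ huL) (L.smul_mem _ hwL))
        have k5 : α = 0 := by
          have e1 := hTQ u'
          rw [k3, Q_add, hQL, polar_add_right, polar_smul_right, polar_smul_right, polar_comm Q u' u, g4,
            polar_comm Q u' w, g3] at e1
          simp only [smul_eq_mul] at e1
          linear_combination e1
        have k6 : δ = 0 := by
          have e1 := hTQ w'
          rw [k4, Q_add, hQL, polar_add_right, polar_smul_right, polar_smul_right, polar_comm Q w' u, g1,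
            polar_comm Q w' w, g2] at e1
          simp only [smul_eq_mul] at e1
          linear_combination e1
        have k7 : γ = -β := by
          have e1 := hTlin u' w'
          have k8 : polar Q (α • u + β • w) (γ • u + δ • w) = 0 :=
            hT.polar (add_mem (L.smul_mem _ huL) (L.smul_mem _ hwL)) (add_mem (L.smul_mem _ huL) (L.smul_mem _ hwL))
          have k9 : polar Q u' (γ • u + δ • w) = γ := by
            rw [polar_add_right, polar_smul_right, polar_smul_right, polar_comm Q u' u, polar_comm Q u' w, g4, g3]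
            simp
          have k10 : polar Q (α • u + β • w) w' = β := by
            rw [polar_add_left, polar_smul_left, polar_smul_left, g1, g2]
            simp
          rw [k3, k4, polar_add_left, polar_add_right Q u' w', polar_add_right Q (α • u + β • w) w', k8, k9,
            k10] at e1
          linear_combination e1
        refine ⟨β, a, ha0, fun v => ?_⟩
        have e1 : polar Q u (β • w) = 0 := by rw [polar_smul_right, huw, smul_zero]
        rw [ss_eq hu e1, sg_apply, QuadraticMap.map_smul, hw, polar_smul_left]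
        have e2 : T v = v + polar Q u v • (β • w) - (β • polar Q w v) • u - ((β * β) • (0 : F) * polar Q u v) • u := by
          have e3 : T (v - polar Q u v • u' - polar Q w v • w') = v - polar Q u v • u' - polar Q w v • w' := by
            apply hfix
            refine perp_pair.2 ⟨?_, ?_⟩
            · rw [polar_sub_right, polar_sub_right, polar_smul_right, polar_smul_right, g4, g1]
              simp
            · rw [polar_sub_right, polar_sub_right, polar_smul_right, polar_smul_right, g3, g2]
              simp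
          rw [map_sub, map_sub, map_smul, map_smul, k3, k4, k5, k6, k7] at e3
          have e4 : T v = (v - polar Q u v • u' - polar Q w v • w') + polar Q w v • (w' + (-β • u + (0 : F) • w)) +
              polar Q u v • (u' + ((0 : F) • u + β • w)) := by
            rw [← e3]; abel
          rw [e4]
          simp only [smul_eq_mul]
          module
        rw [← e2, hTa, smul_smul, mul_inv_cancel₀ ha0, one_smul]
      · -- `T` in `U L` outside of the long root group
        exfalso
        apply hgoal
        push Not at hfix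
        obtain ⟨b, hbp, hbn⟩ := hfix
        have hl'L : T b - b ∈ L := t2 b hbp
        obtain ⟨α, β, hl'⟩ := Submodule.mem_span_pair.1 hl'L
        have hTb : M.1 b = a • (b + (α • u + β • w)) := by
          rw [hl', add_sub_cancel, hTa, smul_smul, mul_inv_cancel₀ ha0, one_smul]
        have key : ∀ l ∈ L, ∀ s : F, ρ (ss Q l (s • (α • u + β • w))) ∈
            H380.RC.cmm ((U Q L).map ρ) x := by
          intro l hlL s
          have hsb : ∀ v ∈ L, polar Q v ((-s) • b) = 0 := fun v hv => by
            rw [polar_smul_right, hbp v hv, smul_zero]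
          have h1 := k1 _ (ss_mem hT hlL hsb)
          rw [conjE_ss hS (hT l hlL) (hsb l hlL), hML l hlL] at h1
          have e0 : M.1 ((-s) • b) = (-s) • a • (b + (α • u + β • w)) := by rw [hlin, hTb]
          have e5 : ∀ v ∈ L, polar Q v ((-s) • (b + (α • u + β • w))) = 0 := by
            intro v hv
            rw [polar_smul_right, polar_add_right, hbp v hv,
              hT.polar hv (add_mem (L.smul_mem _ huL) (L.smul_mem _ hwL))]
            simp
          have h2 : ss Q (a • l) (c⁻¹ • M.1 ((-s) • b)) = ss Q l ((-s) • (b + (α • u + β • w))) := by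
            rw [e0]
            have e1 : Q (a • l) = 0 := by rw [QuadraticMap.map_smul, hT l hlL, smul_zero]
            have e6 : c⁻¹ • (-s) • a • (b + (α • u + β • w)) = (a⁻¹) • ((-s) • (b + (α • u + β • w))) := by
              rw [hca]
              simp only [smul_smul]
              congr 1
              field_simp
            rw [e6]
            have e2 : polar Q (a • l) (a⁻¹ • ((-s) • (b + (α • u + β • w)))) = 0 := by
              rw [polar_smul_left, polar_smul_right, e5 l hlL]; simp
            have e3 : polar Q l (a • a⁻¹ • ((-s) • (b + (α • u + β • w)))) = 0 := by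
              rw [polar_smul_right, polar_smul_right, e5 l hlL]; simp
            rw [ss_eq e1 e2, AutOrth.SemiSim.sg_smul a (hT l hlL) e1 e2 e3, ← ss_eq (hT l hlL) e3, smul_smul a,
              mul_inv_cancel₀ ha0, one_smul]
          rw [h2, ← ss_neg (hT l hlL) (e5 l hlL), ← ss_add (hT l hlL) (hsb l hlL) (by
            rw [polar_neg_right, e5 l hlL, neg_zero])] at h1
          have e7 : (-s) • b + -((-s) • (b + (α • u + β • w))) = s • (α • u + β • w) := by module
          rw [e7] at h1
          exact h1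
        have hne : α • u + β • w ≠ 0 := by
          rw [hl']; exact sub_ne_zero.2 hbn
        by_cases hβ : β = 0
        · have hα : α ≠ 0 := by
            rintro rfl
            apply hne
            rw [hβ]; simp
          have h1 := key w hwL (-α⁻¹)
          have e1 : ss Q w ((-α⁻¹) • (α • u + β • w)) = ss Q u w := by
            rw [hβ]
            have e2 : polar Q w ((-α⁻¹) • (α • u + (0 : F) • w)) = 0 := by
              rw [polar_smul_right, hT.polar hwL (add_mem (L.smul_mem _ huL) (L.smul_mem _ hwL)), smul_zero]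
            rw [ss_eq hw e2, ss_eq hu huw]
            refine ext_E fun v => ?_
            have e3 : (-α⁻¹) • (α • u + (0 : F) • w) = -u := by
              rw [zero_smul, add_zero, smul_smul, neg_mul, inv_mul_cancel₀ hα, neg_smul, one_smul]
            rw [sg_apply, sg_apply, e3, QuadraticMap.map_neg, hu, hw, polar_neg_left]
            module
          rwa [e1] at h1
        · have h1 := key u huL β⁻¹
          have e1 : ss Q u (β⁻¹ • (α • u + β • w)) = ss Q u w := by
            have e2 : polar Q u (β⁻¹ • (α • u + β • w)) = 0 := by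
              rw [polar_smul_right, hT.polar huL (add_mem (L.smul_mem _ huL) (L.smul_mem _ hwL)), smul_zero]
            rw [ss_eq hu e2, ss_eq hu huw]
            refine ext_E fun v => ?_
            have e3 : β⁻¹ • (α • u + β • w) = (β⁻¹ * α) • u + w := by
              rw [smul_add, smul_smul, smul_smul, inv_mul_cancel₀ hβ, one_smul]
            have e4 : Q ((β⁻¹ * α) • u + w) = 0 := hT _ (add_mem (L.smul_mem _ huL) hwL)
            rw [sg_apply, sg_apply, e3, e4, hw, polar_add_left, polar_smul_left]
            simp only [smul_eq_mul]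
            module
          rwa [e1] at h1
  · -- a line which is not fixed
    push Not at hline
    obtain ⟨l, hlL, hl2⟩ := hline
    set m := M.1 l with hm
    have hmL : m ∈ L := hL l hlL
    have hl0 : l ≠ 0 := by
      rintro rfl
      apply hl2 0
      rw [hm, hS.map_zero, smul_zero]
    -- `L = ⟨l, m⟩`
    have hLlm : Submodule.span F {l, m} = L := by
      apply Submodule.eq_of_le_of_finrank_le
      · rw [Submodule.span_le]
        rintro v (hv | hv)
        · rw [hv]; exact hlL
        · rw [Set.mem_singleton_iff.1 hv]; exact hmL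
      · rw [finrank_pair hl0 hl2]
        exact finrank_pair_le u w
    -- a vector in the perpendicular space outside
    obtain ⟨b, hb1, hb2⟩ := exists_out (Q := Q) hG.dim u w
    have hbp := hperp hb1.1 hb1.2
    have hcb : c⁻¹ • M.1 b ∉ Submodule.span F {u, w} := by
      intro h
      apply hMnot b hb2
      have := L.smul_mem c h
      rwa [smul_smul, mul_inv_cancel₀ hS.ne, one_smul] at this
    have hMbp : ∀ v ∈ L, polar Q v (c⁻¹ • M.1 b) = 0 := by
      intro v hv
      rw [polar_smul_right, hperpM b hbp v hv, smul_zero]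
    -- coordinates of `u`, `w`
    obtain ⟨α, β, huc⟩ := Submodule.mem_span_pair.1 (hLlm.symm ▸ huL)
    obtain ⟨γ, δ, hwc⟩ := Submodule.mem_span_pair.1 (hLlm.symm ▸ hwL)
    obtain ⟨b2, h1, h2, h3⟩ := exists_b hG.nondeg hu0 hind hcb (β * γ - α * δ)
    have hb2p := hperp h1 h2
    have hz := k1 _ (ss_mem hT hlL hbp)
    rw [conjE_ss hS (hT l hlL) (hbp l hlL)] at hz
    have h4 := k2 _ (ss_mem hT hlL hb2p) _ hz
    -- compute
    have e1 := ss_cj hT hlL hlL hb2p hbp
    have e2 : ss Q l (-(polar Q b2 b) • l) = 1 := by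
      have f1 : polar Q l (-(polar Q b2 b) • l) = 0 := by rw [polar_smul_right, hT.polar hlL hlL, smul_zero]
      rw [ss_eq (hT l hlL) f1]
      refine ext_E fun v => ?_
      rw [sg_apply, QuadraticMap.map_smul, hT l hlL, polar_smul_left]
      simp only [smul_eq_mul]
      show _ = v
      module
    rw [e2, mul_one] at e1
    have e3 := ss_cj hT hlL hmL hb2p hMbp
    have e4 : (ss Q l b * (ss Q m (c⁻¹ • M.1 b))⁻¹)⁻¹ *
        (ss Q l b2 * (ss Q l b * (ss Q m (c⁻¹ • M.1 b))⁻¹) * (ss Q l b2)⁻¹) =
        ss Q m (c⁻¹ • M.1 b) * (ss Q m (c⁻¹ • M.1 b) * ss Q m (-(polar Q b2 (c⁻¹ • M.1 b)) • l))⁻¹ := by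
      rw [← e3]
      have e5 : ss Q l b2 * (ss Q l b * (ss Q m (c⁻¹ • M.1 b))⁻¹) * (ss Q l b2)⁻¹ =
          (ss Q l b2 * ss Q l b * (ss Q l b2)⁻¹) * (ss Q l b2 * ss Q m (c⁻¹ • M.1 b) * (ss Q l b2)⁻¹)⁻¹ := by group
      rw [e5, e1]
      group
    rw [e4] at h4
    have hml : ∀ s : F, polar Q m (s • l) = 0 := fun s => by rw [polar_smul_right, hT.polar hmL hlL, smul_zero]
    rw [polar_comm Q b2, h3, ← ss_add (hT m hmL) (hMbp m hmL) (hml _), ← ss_neg (hT m hmL) (by
      rw [polar_add_right, hMbp m hmL, hml, add_zero]), ← ss_add (hT m hmL) (hMbp m hmL) (by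
      rw [polar_neg_right, polar_add_right, hMbp m hmL, hml, add_zero, neg_zero])] at h4
    have e6 : c⁻¹ • M.1 b + -(c⁻¹ • M.1 b + -(β * γ - α * δ) • l) = (β * γ - α * δ) • l := by module
    rw [e6] at h4
    have e7 : ss Q m ((β * γ - α * δ) • l) = ss Q u w := by
      rw [ss_eq hu huw, ss_eq (hT m hmL) (hml _)]
      refine ext_E fun v => ?_
      rw [sg_apply, sg_apply, QuadraticMap.map_smul, hT l hlL, hw, ← huc, ← hwc]
      simp only [polar_add_left, polar_smul_left, smul_eq_mul]
      module
    rw [e7] at h4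
    exact absurd h4 hgoal


end main

/-- two elements `t`, `t'` acting on the abelian group `f D` as `1 + a φ`, `1 + b φ` : if `{t, t'}` covers, then the
image of `φ` acts trivially -/
theorem two_abs {F : Type*} [Field F] [Finite F] {D L G Ω : Type*} [AddCommGroup D] [AddCommGroup L] [Module F L]
    [Group G] [MulAction G Ω] {f : D → G} (hf : ∀ v v', f (v + v') = f v * f v') {j : L → D}
    (hj : ∀ l l', j (l + l') = j l + j l') {φ : D → L} (hφ : Function.Surjective φ) {t t' : G} {a b : F}
    (ha : a ≠ 0) (hb : b ≠ 0) (ht : ∀ v, t * f v = f (v + j (a • φ v)) * t)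
    (ht' : ∀ v, t' * f v = f (v + j (b • φ v)) * t') (hcov : ∀ ω : Ω, t • ω = ω ∨ t' • ω = ω)
    (h1 : a = b → t = t') (ω : Ω) (l : L) : f (j l) • ω = ω := by
  have hf0 : f 0 = 1 := by
    have := hf 0 0
    rw [add_zero] at this
    exact mul_left_cancel (a := f 0) (by rw [mul_one]; exact this.symm)
  have hj0 : j 0 = 0 := by
    have := hj 0 0
    rw [add_zero] at this
    exact (left_eq_add.1 this)
  -- the claim
  have main : ∀ (t t' : G) (a b : F), a ≠ 0 → b ≠ 0 → (∀ v, t * f v = f (v + j (a • φ v)) * t) →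
      (∀ v, t' * f v = f (v + j (b • φ v)) * t') → (∀ ω : Ω, t • ω = ω ∨ t' • ω = ω) → (a = b → t = t') →
      ∀ ω : Ω, t • ω ≠ ω → ∀ l : L, f (j l) • ω = ω := by
    clear ht ht' hcov h1 t t' ha hb
    intro t t' a b ha hb ht ht' hcov h1 ω hω l
    have hab : a ≠ b := by
      rintro rfl
      apply hω
      rcases hcov ω with h | h
      · exact h
      · rw [h1 rfl]; exact h
    have hω' : t' • ω = ω := (hcov ω).resolve_left hω
    let K : AddSubgroup L :=
      { carrier := {l | f (j l) • ω = ω}
        zero_mem' := by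
          show f (j 0) • ω = ω
          rw [hj0, hf0, one_smul]
        add_mem' := by
          intro x y hx hy
          show f (j (x + y)) • ω = ω
          have hx' : f (j x) • ω = ω := hx
          have hy' : f (j y) • ω = ω := hy
          rw [hj, hf, mul_smul, hy', hx']
        neg_mem' := by
          intro x hx
          have hx' : f (j x) • ω = ω := hx
          show f (j (-x)) • ω = ω
          conv_lhs => rw [← hx']
          rw [← mul_smul, ← hf, ← hj, neg_add_cancel, hj0, hf0, one_smul] }
    have hK : ∀ l, l ∈ K ↔ f (j l) • ω = ω := fun l => Iff.rfl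
    by_contra hl
    have hcomm : ∀ v v', f v * f v' = f v' * f v := fun v v' => by rw [← hf, ← hf, add_comm]
    -- fixed points of `t'` and `t` in the orbit
    have key : ∀ v, b • φ v ∉ K → t • ω = f (j (-(a • φ v))) • ω := by
      intro v hv
      have e1 : t' • f v • ω ≠ f v • ω := by
        intro h
        apply hv
        rw [hK]
        rw [← mul_smul, ht', mul_smul, hω', hf, mul_smul] at h
        have e2 : f v • f (j (b • φ v)) • ω = f v • ω := by
          rw [← mul_smul, hcomm (v) (j (b • φ v)), mul_smul] at *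
          exact h
        exact smul_left_cancel _ e2
      have e3 := (hcov (f v • ω)).resolve_right e1
      rw [← mul_smul, ht, mul_smul, hf, mul_smul] at e3
      have e4 := smul_left_cancel _ e3
      have e5 : j (-(a • φ v)) + j (a • φ v) = 0 := by rw [← hj, neg_add_cancel, hj0]
      calc t • ω = f (j (-(a • φ v))) • f (j (a • φ v)) • t • ω := by
            rw [← mul_smul (f (j (-(a • φ v)))) (f (j (a • φ v))), ← hf, e5, hf0, one_smul]
        _ = f (j (-(a • φ v))) • ω := by rw [e4]
    have hdiff : ∀ l1 l2, l1 ∉ K → l2 ∉ K → (a * b⁻¹) • (l1 - l2) ∈ K := by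
      intro l1 l2 hl1 hl2
      obtain ⟨v1, hv1⟩ := hφ (b⁻¹ • l1)
      obtain ⟨v2, hv2⟩ := hφ (b⁻¹ • l2)
      have e1 := key v1 (by rw [hv1, smul_smul, mul_inv_cancel₀ hb, one_smul]; exact hl1)
      have e2 := key v2 (by rw [hv2, smul_smul, mul_inv_cancel₀ hb, one_smul]; exact hl2)
      rw [hv1, smul_smul] at e1
      rw [hv2, smul_smul] at e2
      rw [hK]
      have e3 : f (j (-((a * b⁻¹) • l2))) • ω = f (j (-((a * b⁻¹) • l1))) • ω := by rw [← e2, ← e1]
      have e4 : (a * b⁻¹) • (l1 - l2) = (a * b⁻¹) • l1 + -((a * b⁻¹) • l2) := by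
        rw [smul_sub, sub_eq_add_neg]
      rw [e4, hj, hf, mul_smul, e3, ← mul_smul, ← hf, ← hj, add_neg_cancel, hj0, hf0, one_smul]
    set c := a * b⁻¹ with hc
    have hc0 : c ≠ 0 := mul_ne_zero ha (inv_ne_zero hb)
    have hlK : l ∉ K := hl
    have hcK : ∀ k ∈ K, c • k ∈ K := by
      intro k hk
      have e1 := hdiff (l + k) l (fun h => hlK (by simpa using K.sub_mem h hk)) hlK
      rwa [add_sub_cancel_left] at e1
    have hcinv : ∀ k, c • k ∈ K → k ∈ K := by
      intro k hk
      obtain ⟨n, hn, hcn⟩ := isOfFinOrder_iff_pow_eq_one.1 (isOfFinOrder_of_finite (Units.mk0 c hc0))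
      have hcn' : c ^ n = 1 := by
        have := congrArg Units.val hcn
        simpa using this
      have e1 : ∀ m : ℕ, c ^ (m + 1) • k ∈ K := by
        intro m
        induction m with
        | zero => simpa using hk
        | succ m ih =>
          have := hcK _ ih
          rwa [smul_smul, ← pow_succ'] at this
      have e2 := e1 (n - 1)
      rw [Nat.sub_add_cancel hn, hcn', one_smul] at e2
      exact e2
    have hc1 : c - 1 ≠ 0 := by
      intro h
      apply hab
      have h2 : a * b⁻¹ = 1 := sub_eq_zero.1 h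
      calc a = a * b⁻¹ * b := by rw [mul_assoc, inv_mul_cancel₀ hb, mul_one]
        _ = b := by rw [h2, one_mul]
    -- `(c - 1) m ∈ K` for all `m`
    have hm : ∀ m, (c - 1) • m ∈ K := by
      intro m
      by_cases hmK : m ∈ K
      · rw [sub_smul, one_smul]
        exact K.sub_mem (hcK _ hmK) hmK
      · have e1 : c • m ∉ K := fun h => hmK (hcinv _ h)
        have e2 := hcinv _ (hdiff _ _ e1 hmK)
        rwa [sub_smul, one_smul]
    apply hlK
    have := hm ((c - 1)⁻¹ • l)
    rwa [smul_smul, mul_inv_cancel₀ hc1, one_smul] at this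
  have hmove : ∀ v, (∀ l, f (j l) • f v • ω = f v • ω) → ∀ l, f (j l) • ω = ω := by
    intro v h l
    have h2 := h l
    rw [← mul_smul, ← hf, add_comm, hf, mul_smul] at h2
    exact smul_left_cancel _ h2
  by_cases h2 : t • ω = ω
  · by_cases h3 : ∃ v, t • f v • ω ≠ f v • ω
    · obtain ⟨v, hv⟩ := h3
      exact hmove v (main t t' a b ha hb ht ht' hcov h1 _ hv) l
    · push Not at h3
      obtain ⟨v, hv⟩ := hφ (a⁻¹ • l)
      have h4 := h3 v
      rw [← mul_smul, ht, hv, smul_smul, mul_inv_cancel₀ ha, one_smul, mul_smul, h2, hf, mul_smul] at h4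
      exact smul_left_cancel _ h4
  · exact main t t' a b ha hb ht ht' hcov h1 ω h2 l

section box

variable {F V : Type*} [Field F] [Finite F] [AddCommGroup V] [Module F V] [FiniteDimensional F V]
  {Q : QuadraticForm F V} {G Ω : Type*} [Group G] [Finite G] [MulAction G Ω] [Nonempty Ω]
  {N : Subgroup G} {ρ : ↥(E Q) →* G}

omit [Finite F] [FiniteDimensional F V] in
theorem span_smul_right (u w : V) {a : F} (ha : a ≠ 0) :
    Submodule.span F {u, a • w} = Submodule.span F {u, w} := by
  apply le_antisymm
  · rw [Submodule.span_le]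
    rintro v (hv | hv)
    · rw [hv]; exact Submodule.subset_span (by simp)
    · rw [Set.mem_singleton_iff.1 hv]
      exact Submodule.smul_mem _ _ (Submodule.subset_span (by simp))
  · rw [Submodule.span_le]
    rintro v (hv | hv)
    · rw [hv]; exact Submodule.subset_span (by simp)
    · rw [Set.mem_singleton_iff.1 hv]
      have h : a⁻¹ • a • w ∈ Submodule.span F {u, a • w} :=
        Submodule.smul_mem _ _ (Submodule.subset_span (by simp))
      rwa [smul_smul, inv_mul_cancel₀ ha, one_smul] at h

omit [Finite F] [FiniteDimensional F V] [Finite G] in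
theorem ss_comm_U {u w : V} (hu : Q u = 0) (huw : polar Q u w = 0) {g : ↥(E Q)}
    (hg : g ∈ U Q (Submodule.span F {u, w})) : ρ g * ρ (ss Q u w) = ρ (ss Q u w) * ρ g := by
  rw [ss_eq hu huw, ← map_mul, ← map_mul]
  congr 1
  have e1 : (g : V ≃ₗ[F] V) u = u := hg.1 u (Submodule.subset_span (by simp))
  have e2 : (g : V ≃ₗ[F] V) w = w := hg.1 w (Submodule.subset_span (by simp))
  have h1 := Cfsg.Agent.AutOrth.SemiSim.conj_sg g hu huw (by rw [e1]; exact hu) (by rw [e1, e2]; exact huw)
  rw [mul_inv_eq_iff_eq_mul] at h1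
  rw [h1]
  congr 1
  exact sg_congr _ _ _ _ e1 e2

omit [Finite F] [FiniteDimensional F V] [Finite G] in
theorem ss_ne (hG : Good Q) (hρ : Rep Q N ρ) {u w : V} (hu : Q u = 0) (huw : polar Q u w = 0) (hu0 : u ≠ 0)
    (hind : ∀ a : F, w ≠ a • u) : ρ (ss Q u w) ≠ 1 := by
  rw [ss_eq hu huw]
  intro h1
  have h2 : sg Q u w hu huw ∈ Subgroup.center ↥(E Q) := by
    rw [← hρ.ker, MonoidHom.mem_ker]; exact h1
  obtain ⟨a, ha⟩ := center_scalar hG h2
  obtain ⟨b, hb⟩ := Cfsg.Agent.AutOrth.SemiSim.mem_line_of_scalar hG.nondeg hu hu0 huw ha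
  exact hind b hb

/-- **LR1**: a long root element `t` of the plane `L = ⟨u, w⟩` and an element `x` preserving `L`, not in the long root
group of `L`, of any order -/
theorem box_LR1 (hG : Good Q) (hE : Env G Ω N) (hρ : Rep Q N ρ) {x : G} {M : Gam Q} (hl : Lf ρ x M) {u w : V}
    (hu : Q u = 0) (hw : Q w = 0) (huw : polar Q u w = 0) (hu0 : u ≠ 0) (hind : ∀ a : F, w ≠ a • u)
    (hL : ∀ v ∈ Submodule.span F {u, w}, M.1 v ∈ Submodule.span F {u, w})
    (hx : ∀ a : F, x ≠ ρ (ss Q u (a • w)))
    (hcov : ∀ ω : Ω, ρ (ss Q u w) • ω = ω ∨ x • ω = ω) : False := by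
  rcases lr_mem_or hG hl hu hw huw hu0 hind hL with h | ⟨a, d, hd, hM⟩
  · rw [← ss_eq hu huw] at h
    refine H380.RC.not_cov_one hE (U := (U Q (Submodule.span F {u, w})).map ρ) hcov ?_
      (ss_ne hG hρ hu huw hu0 hind) h
    rintro _ ⟨g, hg, rfl⟩
    exact ss_comm_U hu huw hg
  · apply hx a
    have h1 : Lf ρ (x * (ρ (ss Q u (a • w)))⁻¹) (M * (tg Q (ss Q u (a • w)))⁻¹) := hl.mul (Lf.tg _).inv
    have h2 : x * (ρ (ss Q u (a • w)))⁻¹ = 1 := by
      rw [h1.eq_one_iff hG hE hρ]
      refine ⟨d, hd, fun v => ?_⟩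
      show M.1 ((tg Q (ss Q u (a • w)))⁻¹.1 v) = d • v
      rw [hM, ← tg_apply]
      congr 1
      exact Cfsg.Agent.ClassicalGeometry.OrthSemi.apply_inv _ _
    exact mul_inv_eq_one.1 h2

/-- `{t, t'}` in the same long root group is no cover -/
theorem box_LR2' (hG : Good Q) (hE : Env G Ω N) (hρ : Rep Q N ρ) {u w : V}
    (hu : Q u = 0) (hw : Q w = 0) (huw : polar Q u w = 0) (hu0 : u ≠ 0) (hind : ∀ a : F, w ≠ a • u)
    {e : V} (he : Q e = 0) (heu : polar Q e u = 0) (hew : polar Q e w = 0) (heL : e ∉ Submodule.span F {u, w})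
    {a b : F} (ha : a ≠ 0) (hb : b ≠ 0)
    (hcov : ∀ ω : Ω, ρ (ss Q u (a • w)) • ω = ω ∨ ρ (ss Q u (b • w)) • ω = ω) : False := by
  set L := Submodule.span F {u, w} with hLdef
  have hT : TS Q L := ts_pair hu hw huw
  have huL : u ∈ L := Submodule.subset_span (by simp)
  have hwL : w ∈ L := Submodule.subset_span (by simp)
  have he0 : e ≠ 0 := by rintro rfl; exact heL L.zero_mem
  have hpe : ∀ l ∈ L, polar Q e l = 0 := by
    intro l hl
    obtain ⟨x, y, rfl⟩ := Submodule.mem_span_pair.1 hl
    rw [polar_add_right, polar_smul_right, polar_smul_right, heu, hew]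
    simp
  have hwe : ∀ x : F, w ≠ x • e := by
    intro x hx
    have hx0 : x ≠ 0 := by
      rintro rfl
      exact hind 0 (by rw [hx, zero_smul, zero_smul])
    apply heL
    have : e = x⁻¹ • w := by rw [hx, smul_smul, inv_mul_cancel₀ hx0, one_smul]
    rw [this]; exact L.smul_mem _ hwL
  have hue : ∀ x : F, u ≠ x • e := by
    intro x hx
    have hx0 : x ≠ 0 := by
      rintro rfl
      exact hu0 (by rw [hx, zero_smul])
    apply heL
    have : e = x⁻¹ • u := by rw [hx, smul_smul, inv_mul_cancel₀ hx0, one_smul]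
    rw [this]; exact L.smul_mem _ huL
  have hu' : u ∉ Submodule.span F {e, w} := by
    intro h
    obtain ⟨x, y, hxy⟩ := Submodule.mem_span_pair.1 h
    by_cases hx : x = 0
    · rw [hx, zero_smul, zero_add] at hxy
      exact ind_symm hu0 hind y hxy.symm
    · apply heL
      have : e = x⁻¹ • (u - y • w) := by
        rw [← hxy, add_sub_cancel_right, smul_smul, inv_mul_cancel₀ hx, one_smul]
      rw [this]; exact L.smul_mem _ (L.sub_mem huL (L.smul_mem _ hwL))
  have hw' : w ∉ Submodule.span F {e, u} := by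
    intro h
    obtain ⟨x, y, hxy⟩ := Submodule.mem_span_pair.1 h
    by_cases hx : x = 0
    · rw [hx, zero_smul, zero_add] at hxy
      exact hind y hxy.symm
    · apply heL
      have : e = x⁻¹ • (w - y • u) := by
        rw [← hxy, add_sub_cancel_right, smul_smul, inv_mul_cancel₀ hx, one_smul]
      rw [this]; exact L.smul_mem _ (L.sub_mem hwL (L.smul_mem _ huL))
  let D : Submodule F V := LinearMap.ker (polarBilin Q e)
  have hD : ∀ v : D, polar Q e v = 0 := fun v => LinearMap.mem_ker.1 v.2
  let f : D → G := fun v => ρ (ss Q e v)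
  let j : L → D := fun l => ⟨l, LinearMap.mem_ker.2 (hpe l l.2)⟩
  let φ : D → L := fun v => ⟨polar Q u v • w - polar Q w v • u, L.sub_mem (L.smul_mem _ hwL) (L.smul_mem _ huL)⟩
  have hφ : Function.Surjective φ := by
    rintro ⟨l, hl⟩
    obtain ⟨x, y, rfl⟩ := Submodule.mem_span_pair.1 hl
    obtain ⟨v1, a1, a2, a3⟩ := exists_b hG.nondeg he0 hwe hu' y
    obtain ⟨v2, b1, b2, b3⟩ := exists_b hG.nondeg he0 hue hw' (-x)
    refine ⟨⟨v1 + v2, LinearMap.mem_ker.2 ?_⟩, Subtype.ext ?_⟩
    · show polar Q e (v1 + v2) = 0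
      rw [polar_add_right, a1, b1, add_zero]
    · show polar Q u (v1 + v2) • w - polar Q w (v1 + v2) • u = _
      rw [polar_add_right, polar_add_right, a2, a3, b2, b3]
      module
  have hact : ∀ (a : F) (v : D), ρ (ss Q u (a • w)) * f v = f (v + j (a • φ v)) * ρ (ss Q u (a • w)) := by
    intro a v
    have e1 : polar Q u (a • w) = 0 := by rw [polar_smul_right, huw, smul_zero]
    have e2 : (sg Q u (a • w) hu e1 : V ≃ₗ[F] V) e = e := by
      rw [sg_apply, polar_comm Q u e, heu, polar_smul_left, polar_comm Q w e, hew]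
      simp
    have e3 : (sg Q u (a • w) hu e1 : V ≃ₗ[F] V) v = v + a • (polar Q u v • w - polar Q w v • u) := by
      rw [sg_apply, QuadraticMap.map_smul, hw, polar_smul_left]
      simp only [smul_eq_mul]
      module
    have e4 : polar Q e (v + a • (polar Q u v • w - polar Q w v • u)) = 0 := by
      rw [polar_add_right, hD v, polar_smul_right, polar_sub_right, polar_smul_right, polar_smul_right, heu, hew]
      simp
    have e5 := Cfsg.Agent.AutOrth.SemiSim.conj_sg (sg Q u (a • w) hu e1) he (hD v) (by rw [e2]; exact he)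
      (by rw [e2, e3]; exact e4)
    rw [mul_inv_eq_iff_eq_mul] at e5
    show ρ (ss Q u (a • w)) * ρ (ss Q e v) = ρ (ss Q e (v + a • (polar Q u v • w - polar Q w v • u))) *
      ρ (ss Q u (a • w))
    rw [ss_eq hu e1, ss_eq he (hD v), ss_eq he e4, ← map_mul, ← map_mul, e5]
    congr 2
    exact sg_congr _ _ _ _ e2 e3
  have hmain := two_abs (Ω := Ω) (f := f) (j := j) (φ := φ) (t := ρ (ss Q u (a • w))) (t' := ρ (ss Q u (b • w)))
    (fun v v' => by
      show ρ (ss Q e (v + v')) = ρ (ss Q e v) * ρ (ss Q e v')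
      rw [ss_add he (hD v) (hD v'), map_mul])
    (fun l l' => rfl) hφ ha hb (hact a) (hact b) hcov (fun h => by rw [h])
  exact hE.not_all (ss_ne hG hρ he heu he0 hue) fun ω => hmain ω ⟨u, huL⟩

/-- **LR2**: two long root elements of the same long root group, and commuting `p'`-elements preserving the plane -/
theorem box_LR2 (hG : Good Q) (hE : Env G Ω N) (hρ : Rep Q N ρ) {p : ℕ} [CharP F p]
    {ι : Type*} [Finite ι] {y : ι → G} {M : ι → Gam Q} {r : ι → ℕ} (hl : ∀ i, Lf ρ (y i) (M i))
    (hr : ∀ i, (r i).Prime) (hrp : ∀ i, r i ≠ p) (hy : ∀ i, y i ^ r i = 1) (hy1 : ∀ i, y i ≠ 1)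
    (hc : ∀ i j, y i * y j = y j * y i) {u w : V} (hu : Q u = 0) (hw : Q w = 0)
    (huw : polar Q u w = 0) (hu0 : u ≠ 0) (hind : ∀ a : F, w ≠ a • u)
    (hL : ∀ i, ∀ v ∈ Submodule.span F {u, w}, (M i).1 v ∈ Submodule.span F {u, w})
    {e : V} (he : Q e = 0) (heu : polar Q e u = 0) (hew : polar Q e w = 0) (heL : e ∉ Submodule.span F {u, w})
    {a b : F} (ha : a ≠ 0) (hb : b ≠ 0)
    (hcov : ∀ ω : Ω, ρ (ss Q u (a • w)) • ω = ω ∨ ρ (ss Q u (b • w)) • ω = ω ∨ ∃ i, y i • ω = ω) : False := by
  have hp : p.Prime := CharP.char_is_prime F p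
  have hpf : Fact p.Prime := ⟨hp⟩
  refine box_LR2' hG hE hρ hu hw huw hu0 hind he heu hew heL ha hb ?_
  intro ω
  set L := Submodule.span F {u, w} with hLdef
  have hpg : IsPGroup p ((U Q L).map ρ) := (isPGroup_U p _).map ρ
  have hcomU : ∀ (a : F), ∀ g ∈ (U Q L).map ρ, g * ρ (ss Q u (a • w)) = ρ (ss Q u (a • w)) * g := by
    rintro a _ ⟨g, hg, rfl⟩
    have e1 : polar Q u (a • w) = 0 := by rw [polar_smul_right, huw, smul_zero]
    rw [ss_eq hu e1, ← map_mul, ← map_mul]
    congr 1
    have e2 : (g : V ≃ₗ[F] V) u = u := hg.1 u (Submodule.subset_span (by simp))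
    have e3 : (g : V ≃ₗ[F] V) (a • w) = a • w := hg.1 _ (L.smul_mem _ (Submodule.subset_span (by simp)))
    have h1 := Cfsg.Agent.AutOrth.SemiSim.conj_sg g hu e1 (by rw [e2]; exact hu) (by rw [e2, e3]; exact e1)
    rw [mul_inv_eq_iff_eq_mul] at h1
    rw [h1]
    congr 1
    exact sg_congr _ _ _ _ e2 e3
  have hloc := H380.RC.lr_loc (x := y) hr hy hc (U := (U Q L).map ρ)
    (P := fun ω : Ω => ρ (ss Q u (a • w)) • ω = ω ∨ ρ (ss Q u (b • w)) • ω = ω) ?_ ?_ ?_ (Or.inr ⟨hpg.isNilpotent, ?_⟩) ω
  · rcases hloc with h | ⟨i, hi⟩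
    · exact h
    · left
      have e0 : ∀ v ∈ Submodule.span F {u, a • w}, (M i).1 v ∈ Submodule.span F {u, a • w} := by
        rw [span_smul_right u w ha]
        exact hL i
      have e1 : polar Q u (a • w) = 0 := by rw [polar_smul_right, huw, smul_zero]
      have e2 : Q (a • w) = 0 := by rw [QuadraticMap.map_smul, hw, smul_zero]
      have e3 : ∀ x : F, a • w ≠ x • u := by
        intro x hx
        exact hind (a⁻¹ * x) (by rw [mul_smul, ← hx, smul_smul, inv_mul_cancel₀ ha, one_smul])
      have e4 := lr_mem hG (hl i) hu e2 e1 hu0 e3 e0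
        (fun h => hy1 i (((hl i).eq_one_iff hG hE hρ).2 h)) (hr i) (hrp i) ((hl i).pow_scal hG hρ (hy i))
      rw [← ss_eq hu e1] at e4
      rw [span_smul_right u w ha] at e4
      exact H380.RC.comm_le hi e4
  · rintro g hg ω (h | h)
    · left
      rw [← mul_smul, ← hcomU a g hg, mul_smul] at h
      exact smul_left_cancel _ h
    · right
      rw [← mul_smul, ← hcomU b g hg, mul_smul] at h
      exact smul_left_cancel _ h
  · intro ω
    rcases hcov ω with h | h | h
    · exact Or.inl (Or.inl h)
    · exact Or.inl (Or.inr h)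
    · exact Or.inr h
  · rintro i _ ⟨g, hg, rfl⟩
    rw [hl i g]
    exact ⟨_, conjE_mem_U (hL i) hg, rfl⟩
  · intro i
    obtain ⟨n, hn⟩ := IsPGroup.iff_card.1 hpg
    rw [hn]
    exact Nat.Coprime.pow_right _ ((Nat.coprime_primes (hr i) hp).2 (hrp i))

end box

end Cfsg.Agent.H106.RC.LrTwo
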