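import Cfsg.Agent.H106.RC.Fin
import Cfsg.Agent.H106.RC.EvenFin
import Cfsg.Agent.H380.RC.Main
import Cfsg.Agent.H721.RC.Row8
import Cfsg.Agent.H566.RC.TypeI
import Cfsg.Agent.H442.RC.TypeII
import Cfsg.Agent.H911.RC.TypeIV

/-!
# S3510: everything from type iii of the triality part (helper106)
-/

set_option autoImplicit false
open Cfsg

namespace Cfsg.Agent.H106.RC

/-- row `PΩ₈⁺(q)` from type iii -/
theorem row8_of_iii (h3 : H721.RC.TypeIII) : H721.RC.Row8 :=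
  H721.RC.row8_of EvenFin.noCovEven
    (fun hG hE hIH _ _ _ _ hx hcov _ _ fr hl => H566.RC.type_i hG hE hIH hx hcov fr hl)
    (fun hG hE hIH _ _ _ _ hx hcov _ _ fr h3 hl => H442.RC.TriB.type_ii hG hE hIH hx hcov fr h3 hl)
    h3
    (fun hG hE hIH _ _ _ _ hx hcov _ _ _ fr h3 hτ _ hl _ => H911.RC.type_iv hG hE hIH hx hcov fr h3 hτ hl)

/-- S3510 from type iii -/
theorem fin_of_iii.{u, v} (h3 : H721.RC.TypeIII)
    {G : Type u} [Group G] [Finite G] {Ω : Type v} [Fintype Ω] [MulAction G Ω] [FaithfulSMul G Ω]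
    (T : Subgroup G) [T.Normal] (hT : IsSimpleGroup T) (hTc : ¬ IsMulCommutative T)
    (hC : Subgroup.centralizer (T : Set G) = ⊥)
    (hcl : (Cfsg.IsPSL T ∨ Cfsg.IsPSp T ∨ Cfsg.IsPSU T ∨ Cfsg.IsPOmegaOdd T ∨ Cfsg.IsPOmegaPlus T ∨ Cfsg.IsPOmegaMinus T))
    (hprim : MulAction.IsPreprimitive G Ω) (g : G)
    (hg : ∀ ω : Ω, MulAction.stabilizer (Subgroup.zpowers g) ω ≠ ⊥) :
    (Nonempty (T ≃* alternatingGroup (Fin 5)) ∧ Fintype.card Ω = 5) ∨
    (Nonempty (T ≃* alternatingGroup (Fin 6)) ∧ Fintype.card Ω = 6) ∨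
    (Nonempty (T ≃* alternatingGroup (Fin 8)) ∧ Fintype.card Ω = 8) :=
  fin_of (H380.RC.psu H67.RC.row_psp) (H721.RC.row_plus_of EvenFin.noCovEven (row8_of_iii h3))
    EvenFin.row_minus T hT hTc hC hcl hprim g hg

/-- all non-exceptional simple classical groups have the regular cycle property, from type iii -/
theorem rc_of_iii (h3 : H721.RC.TypeIII) (S : Type) [Group S] [Finite S] (hS : IsSimpleGroup S)
    (hn : ¬ IsMulCommutative S) (hcl : Cl S) (he : ¬ Exc S) : RC S :=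
  rc_of_rows H384.RC.row_psl_all H67.RC.row_psp (H380.RC.psu H67.RC.row_psp) H93.RC.row_odd
    (H721.RC.row_plus_of EvenFin.noCovEven (row8_of_iii h3)) EvenFin.row_minus S hS hn hcl he

end Cfsg.Agent.H106.RC
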