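import Cfsg.Agent.H106.RC.Cover

/-!
# The M-rule with the induction hypothesis built in
-/

set_option autoImplicit false
open Cfsg

namespace Cfsg.Agent.H106.RC

open MulAction
open scoped commutatorElement

/-- `RC` for a classical quotient of a proper subgroup of `N ≅ S` -/
theorem IH.use {G S S' : Type} [Group G] [Finite G] [Group S] [Finite S] [Group S'] [Finite S']
    (hIH : IH (Nat.card S)) {N : Subgroup G} (e : N ≃* S) {M : Subgroup G} (hMN : M ≤ N)
    (hne : M ≠ N) (π : M →* S') (hπ : Function.Surjective π)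
    (h1 : IsSimpleGroup S') (h2 : ¬ IsMulCommutative S') (h3 : Cl S') (h4 : ¬ Exc S') : RC S' := by
  apply hIH S' h1 h2 h3 h4
  have hc1 : Nat.card S' ≤ Nat.card M := Nat.card_le_card_of_surjective π hπ
  have hc2 : Nat.card M < Nat.card N := by
    rcases lt_or_eq_of_le hMN with hlt | heq
    · have h5 : Nat.card M ≤ Nat.card N := Subgroup.card_le_of_le hMN
      rcases lt_or_eq_of_le h5 with h | h
      · exact h
      · exact (hne (Subgroup.eq_of_le_of_card_ge hMN h.ge)).elim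
    · exact (hne heq).elim
  have hc3 : Nat.card N = Nat.card S := Nat.card_congr e.toEquiv
  omega

/-- M-rule, classical quotient, induction hypothesis built in.  Conclusion for every point. -/
theorem mrule_IH {G S S' Ω ι : Type} [Group G] [Finite G] [Group S] [Finite S] [Group S']
    [Finite S'] [MulAction G Ω] [Finite ι]
    (hIH : IH (Nat.card S)) {N : Subgroup G} (e : N ≃* S) {M : Subgroup G} (hMN : M ≤ N)
    (hne : M ≠ N) (hperf : ⁅M, M⁆ = M) (π : M →* S') (hπ : Function.Surjective π)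
    (hker : π.ker ≤ Subgroup.center M)
    (h1 : IsSimpleGroup S') (h2 : ¬ IsMulCommutative S') (h3 : Cl S') (h4 : ¬ Exc S')
    {x : ι → G} {r : ι → ℕ} (hx : PF x r) (hcov : Cov Ω x)
    (hnorm : ∀ i, x i ∈ Subgroup.normalizer (M : Set G)) (ω : Ω) :
    M ≤ stabilizer G ω ∨ ∃ j, (∀ m ∈ M, x j * m = m * x j) ∧ x j • ω = ω :=
  mrule_RC h1 h2 x r hx.prime hx.inj hx.pow hx.comm M hperf π hπ hker hnorm
    (hIH.use e hMN hne π hπ h1 h2 h3 h4) ω (fun m _ => by
      obtain ⟨i, hi⟩ := hcov (m • ω)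
      exact ⟨i, hi⟩)

/-- M-rule, new cover: `none` stands for the chosen element of `M`, `some j` for the members
centralising `M` -/
theorem Cov.ofM {G Ω ι : Type*} [Group G] [MulAction G Ω] {x : ι → G} {M : Subgroup G}
    (h : ∀ ω : Ω, M ≤ stabilizer G ω ∨ ∃ j, (∀ m ∈ M, x j * m = m * x j) ∧ x j • ω = ω)
    {y : G} (hy : y ∈ M) :
    ∀ ω : Ω, y • ω = ω ∨ ∃ j, (∀ m ∈ M, x j * m = m * x j) ∧ x j • ω = ω := by
  intro ω
  rcases h ω with h | h
  · exact Or.inl (h hy)
  · exact Or.inr h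

/-- if no member of the cover centralises `M`, contradiction -/
theorem no_cent {G Ω ι : Type*} [Group G] [MulAction G Ω] [Nonempty Ω] {N : Subgroup G}
    (hE : Env G Ω N) {x : ι → G} {M : Subgroup G}
    (h : ∀ ω : Ω, M ≤ stabilizer G ω ∨ ∃ j, (∀ m ∈ M, x j * m = m * x j) ∧ x j • ω = ω)
    (hJ : ∀ j, ¬ ∀ m ∈ M, x j * m = m * x j) (hM : M ≠ ⊥) : False := by
  obtain ⟨⟨y, hy⟩, hy1'⟩ := Subgroup.ne_bot_iff_exists_ne_one.1 hM
  have hy1 : y ≠ 1 := fun h => hy1' (Subtype.ext h)
  apply hy1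
  apply hE.single
  intro ω
  rcases h ω with h | ⟨j, hj, -⟩
  · exact h hy
  · exact (hJ j hj).elim

end Cfsg.Agent.H106.RC
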